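import Mathlib.GroupTheory.SpecificGroups.Alternating
import Mathlib.GroupTheory.Perm.Support
import Mathlib.GroupTheory.Commutator.Basic

/-!
An involution of the alternating group of degree at least six lies in the derived subgroup of its
centralizer.
-/

set_option autoImplicit false

namespace Cfsg.Agent.H65.CentSmallAlt

open Equiv

open scoped commutatorElement

variable {α : Type*} [Fintype α] [DecidableEq α]

theorem commutator_swaps {a b c d e f : α} (hab : a ≠ b) (hac : a ≠ c) (had : a ≠ d) (hbc : b ≠ c)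
    (hbd : b ≠ d) (hcd : c ≠ d) (hea : e ≠ a) (heb : e ≠ b) (hec : e ≠ c) (hed : e ≠ d)
    (hfa : f ≠ a) (hfb : f ≠ b) (hfc : f ≠ c) (hfd : f ≠ d) (hef : e ≠ f) :
    ⁅swap a b * swap e f, swap a c * swap b d⁆ = swap a b * swap c d := by
  rw [commutatorElement_def]
  set t := swap a c * swap b d with ht
  have hta : t a = c := by rw [ht, Perm.mul_apply, swap_apply_of_ne_of_ne hab had, swap_apply_left]
  have htb : t b = d := by
    rw [ht, Perm.mul_apply, swap_apply_left, swap_apply_of_ne_of_ne had.symm hcd.symm]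
  have hte : t e = e := by
    rw [ht, Perm.mul_apply, swap_apply_of_ne_of_ne heb hed, swap_apply_of_ne_of_ne hea hec]
  have htf : t f = f := by
    rw [ht, Perm.mul_apply, swap_apply_of_ne_of_ne hfb hfd, swap_apply_of_ne_of_ne hfa hfc]
  have h1 : t * (swap a b * swap e f)⁻¹ * t⁻¹ = swap e f * swap c d := by
    rw [mul_inv_rev, swap_inv, swap_inv,
      show t * (swap e f * swap a b) * t⁻¹ = (t * swap e f * t⁻¹) * (t * swap a b * t⁻¹) by group,
      ← swap_apply_apply, ← swap_apply_apply, hta, htb, hte, htf]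
  calc swap a b * swap e f * t * (swap a b * swap e f)⁻¹ * t⁻¹
      = swap a b * swap e f * (t * (swap a b * swap e f)⁻¹ * t⁻¹) := by group
    _ = swap a b * swap c d := by
        rw [h1, mul_assoc, ← mul_assoc (swap e f) (swap e f), swap_mul_self, one_mul]

theorem swap_mul_involutive {y : Perm α} (hy : ∀ i, y (y i) = i) {a : α} (ha : y a ≠ a) :
    (∀ i, (swap a (y a) * y) i ≠ i →
      (swap a (y a) * y) i = y i ∧ i ≠ a ∧ i ≠ y a ∧ y i ≠ i) ∧
    (∀ i, (swap a (y a) * y) ((swap a (y a) * y) i) = i) ∧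
    (swap a (y a) * y).support.card < y.support.card := by
  have hval : ∀ i, i ≠ a → i ≠ y a → (swap a (y a) * y) i = y i := by
    intro i h1 h2
    refine swap_apply_of_ne_of_ne (fun h => h2 ?_) (fun h => h1 (y.injective h))
    rw [← h, hy]
  have hva : (swap a (y a) * y) a = a := by rw [Perm.mul_apply, swap_apply_right]
  have hvb : (swap a (y a) * y) (y a) = y a := by rw [Perm.mul_apply, hy, swap_apply_left]
  have h1 : ∀ i, (swap a (y a) * y) i ≠ i →
      (swap a (y a) * y) i = y i ∧ i ≠ a ∧ i ≠ y a ∧ y i ≠ i := by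
    intro i hi
    have hia : i ≠ a := fun h => hi (by rw [h]; exact hva)
    have hib : i ≠ y a := fun h => hi (by rw [h]; exact hvb)
    exact ⟨hval i hia hib, hia, hib, by rwa [hval i hia hib] at hi⟩
  refine ⟨h1, fun i => ?_, Finset.card_lt_card ?_⟩
  · by_cases hi : (swap a (y a) * y) i = i
    · rw [hi, hi]
    · obtain ⟨e, hia, hib, -⟩ := h1 i hi
      rw [e, hval _ (fun h => hib (by rw [← h, hy])) (fun h => hia (y.injective h)), hy]
  · rw [Finset.ssubset_iff_of_subset]
    · exact ⟨a, Perm.mem_support.2 ha, fun h => Perm.mem_support.1 h hva⟩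
    · exact fun i hi => Perm.mem_support.2 (h1 i (Perm.mem_support.1 hi)).2.2.2

variable (x : alternatingGroup α)

/-- The derived subgroup of the centralizer, inside the symmetric group. -/
def derCent : Subgroup (Perm α) :=
  (⁅Subgroup.centralizer ({x} : Set (alternatingGroup α)),
    Subgroup.centralizer ({x} : Set (alternatingGroup α))⁆).map (alternatingGroup α).subtype

variable {x}

theorem commutator_mem_derCent {s t : Perm α} (hs : Perm.sign s = 1) (ht : Perm.sign t = 1)
    (hs' : s * x = x * s) (ht' : t * x = x * t) : ⁅s, t⁆ ∈ derCent x := by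
  refine ⟨⁅(⟨s, Perm.mem_alternatingGroup.2 hs⟩ : alternatingGroup α),
    ⟨t, Perm.mem_alternatingGroup.2 ht⟩⁆, Subgroup.commutator_mem_commutator ?_ ?_, ?_⟩
  · exact Subgroup.mem_centralizer_singleton_iff.2 (Subtype.ext hs')
  · exact Subgroup.mem_centralizer_singleton_iff.2 (Subtype.ext ht')
  · rw [map_commutatorElement]; rfl

theorem swap_commute {p q : α} (h1 : (x : Perm α) p = q ∧ (x : Perm α) q = p ∨
    (x : Perm α) p = p ∧ (x : Perm α) q = q) : swap p q * (x : Perm α) = x * swap p q := by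
  rw [eq_comm, ← mul_inv_eq_iff_eq_mul, ← swap_apply_apply]
  rcases h1 with ⟨e1, e2⟩ | ⟨e1, e2⟩
  · rw [e1, e2, swap_comm]
  · rw [e1, e2]

theorem double_mem (hcard : 6 ≤ Fintype.card α) (hx : ∀ i, (x : Perm α) ((x : Perm α) i) = i)
    {a b c d : α} (hab : a ≠ b) (hac : a ≠ c) (had : a ≠ d) (hbc : b ≠ c) (hbd : b ≠ d)
    (hcd : c ≠ d) (ha : (x : Perm α) a = b) (hc : (x : Perm α) c = d) :
    swap a b * swap c d ∈ derCent x := by
  have hb : (x : Perm α) b = a := by rw [← ha, hx]
  have hd : (x : Perm α) d = c := by rw [← hc, hx]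
  obtain ⟨e, f, hef, hea, heb, hec, hed, hfa, hfb, hfc, hfd, hxef⟩ :
      ∃ e f : α, e ≠ f ∧ e ≠ a ∧ e ≠ b ∧ e ≠ c ∧ e ≠ d ∧ f ≠ a ∧ f ≠ b ∧ f ≠ c ∧ f ≠ d ∧
        ((x : Perm α) e = f ∧ (x : Perm α) f = e ∨ (x : Perm α) e = e ∧ (x : Perm α) f = f) := by
    by_cases hp : ∃ p, (x : Perm α) p ≠ p ∧ p ≠ a ∧ p ≠ b ∧ p ≠ c ∧ p ≠ d
    · obtain ⟨p, hp0, hpa, hpb, hpc, hpd⟩ := hp
      exact ⟨p, (x : Perm α) p, hp0.symm, hpa, hpb, hpc, hpd,
        fun h => hpb (by rw [← ha, ← h, hx]), fun h => hpa (by rw [← hb, ← h, hx]),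
        fun h => hpd (by rw [← hc, ← h, hx]), fun h => hpc (by rw [← hd, ← h, hx]),
        Or.inl ⟨rfl, hx p⟩⟩
    · push Not at hp
      have h4 : ({a, b, c, d} : Finset α).card ≤ 4 := Finset.card_le_four
      have h2 : 1 < (Finset.univ \ {a, b, c, d} : Finset α).card := by
        rw [Finset.card_univ_diff]; omega
      obtain ⟨e, he, f, hf, hef⟩ := Finset.one_lt_card.1 h2
      simp only [Finset.mem_sdiff, Finset.mem_univ, true_and, Finset.mem_insert,
        Finset.mem_singleton, not_or] at he hf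
      obtain ⟨h1, h2, h3, h4⟩ := he
      obtain ⟨g1, g2, g3, g4⟩ := hf
      refine ⟨e, f, hef, h1, h2, h3, h4, g1, g2, g3, g4, Or.inr ⟨?_, ?_⟩⟩
      · exact by_contra fun h => h4 (hp e h h1 h2 h3)
      · exact by_contra fun h => g4 (hp f h g1 g2 g3)
  rw [← commutator_swaps hab hac had hbc hbd hcd hea heb hec hed hfa hfb hfc hfd hef]
  refine commutator_mem_derCent ?_ ?_ ?_ ?_
  · rw [map_mul, Perm.sign_swap hab, Perm.sign_swap hef]; rfl
  · rw [map_mul, Perm.sign_swap hac, Perm.sign_swap hbd]; rfl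
  · exact Commute.mul_left (swap_commute (Or.inl ⟨ha, hb⟩)) (swap_commute hxef)
  · have hdisj : Perm.Disjoint (swap a c) (swap b d) := by
      intro i
      by_cases h : i = a ∨ i = c
      · refine Or.inr (swap_apply_of_ne_of_ne ?_ ?_) <;> rcases h with rfl | rfl
        exacts [hab, hbc.symm, had, hcd]
      · push Not at h
        exact Or.inl (swap_apply_of_ne_of_ne h.1 h.2)
    show swap a c * swap b d * (x : Perm α) = x * (swap a c * swap b d)
    rw [eq_comm, ← mul_inv_eq_iff_eq_mul,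
      show (x : Perm α) * (swap a c * swap b d) * (x : Perm α)⁻¹ =
        (x * swap a c * (x : Perm α)⁻¹) * (x * swap b d * (x : Perm α)⁻¹) by group,
      ← swap_apply_apply, ← swap_apply_apply, ha, hb, hc, hd, hdisj.commute.eq]

/-- An involution of `A_n`, `n ≥ 6`, is in the derived subgroup of its centralizer. -/
theorem mem_derived_centralizer (hcard : 6 ≤ Fintype.card α) (hx : x * x = 1) :
    x ∈ ⁅Subgroup.centralizer ({x} : Set (alternatingGroup α)),
      Subgroup.centralizer ({x} : Set (alternatingGroup α))⁆ := by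
  have hxi : ∀ i, (x : Perm α) ((x : Perm α) i) = i := fun i => by
    rw [← Perm.mul_apply, ← Subgroup.coe_mul, hx]; rfl
  suffices h : (x : Perm α) ∈ derCent x by
    obtain ⟨z, hz, hzx⟩ := h
    rwa [show z = x from Subtype.ext hzx] at hz
  suffices H : ∀ (n : ℕ) (y : Perm α), y.support.card = n → (∀ i, y (y i) = i) →
      Perm.sign y = 1 → (∀ i, y i ≠ i → y i = (x : Perm α) i) → y ∈ derCent x from
    H _ _ rfl hxi (Perm.mem_alternatingGroup.1 x.2) (fun i _ => rfl)
  intro n
  induction n using Nat.strong_induction_on with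
  | _ n ih =>
    intro y hn hy hsgn hsub
    by_cases hy1 : y = 1
    · rw [hy1]; exact one_mem _
    obtain ⟨a, ha⟩ : ∃ a, y a ≠ a := by
      by_contra h
      push Not at h
      exact hy1 (Perm.ext h)
    obtain ⟨h1, h2, h3⟩ := swap_mul_involutive hy ha
    set y1 := swap a (y a) * y with hy1def
    have hs1 : Perm.sign y1 = -1 := by
      rw [hy1def, map_mul, Perm.sign_swap ha.symm, hsgn, mul_one]
    obtain ⟨c, hc⟩ : ∃ c, y1 c ≠ c := by
      by_contra h
      push Not at h
      rw [show y1 = 1 from Perm.ext h, map_one] at hs1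
      exact absurd hs1 (by decide)
    obtain ⟨hcy, hca, hcb, hc'⟩ := h1 c hc
    obtain ⟨g1, g2, g3⟩ := swap_mul_involutive h2 hc
    have hyy : y = swap a (y a) * swap c (y1 c) * (swap c (y1 c) * y1) := by
      rw [mul_assoc, ← mul_assoc (swap c (y1 c)), swap_mul_self, one_mul, hy1def,
        ← mul_assoc, swap_mul_self, one_mul]
    rw [hyy]
    refine mul_mem (double_mem hcard hxi ha.symm hca.symm ?_ hcb.symm ?_ hc.symm
      (hsub a ha).symm ?_) (ih _ (by omega) _ rfl g2 ?_ ?_)
    · rw [hcy]; exact fun h => hcb (by rw [h, hy])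
    · rw [hcy]; exact fun h => hca (y.injective h).symm
    · rw [hcy]; exact (hsub c hc').symm
    · rw [map_mul, Perm.sign_swap hc.symm, hs1]; rfl
    · intro i hi
      obtain ⟨e, -, -, hi'⟩ := g1 i hi
      obtain ⟨e', -, -, hi''⟩ := h1 i hi'
      rw [e, e']; exact hsub i hi''

end Cfsg.Agent.H65.CentSmallAlt
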