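import Cfsg.Agent.H65.CentSmallAlt.Simple
import Mathlib.Algebra.BigOperators.Group.Finset.Basic

/-!
When the centralizer of `J` has order 24 the normalizer of the Sylow subgroup is strongly embedded;
counting involutions in its cosets gives `|G| = 1512`.
-/

set_option autoImplicit false
set_option linter.unusedSectionVars false
set_option linter.style.haveILetI false

namespace Cfsg.Agent.H65.CentSmallAlt.Base

open Subgroup

variable {G : Type*} [Group G] [Finite G] (D : Base G)

/-- The centralizer of `J` has order 24. -/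
def Small : Prop := Nat.card (centralizer ({D.J} : Set G)) = 24

variable {D}

theorem C_le_H (hC : D.Small) : centralizer ({D.J} : Set G) ≤ D.H := by
  have h : D.H ⊓ centralizer ({D.J} : Set G) = centralizer ({D.J} : Set G) :=
    eq_of_le_of_card_ge inf_le_right (le_of_eq (hC.trans D.card_NC.symm))
  exact h ▸ inf_le_left

theorem mem_P_of_involution {u : G} (hu : u * u = 1) (huH : u ∈ D.H) : u ∈ (D.P : Subgroup G) := by
  haveI : Fact (Nat.Prime 2) := ⟨Nat.prime_two⟩
  by_cases h1 : u = 1
  · rw [h1]; exact one_mem _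
  let Q : Sylow 2 D.H := D.P.subtype D.P_le_H
  haveI : (Q : Subgroup D.H).Normal := normal_in_normalizer
  haveI := Sylow.unique_of_normal Q inferInstance
  have h2 : IsPGroup 2 (zpowers (⟨u, huH⟩ : D.H)) := IsPGroup.of_card (n := 1) (by
    rw [Nat.card_zpowers, pow_one, orderOf_mk]
    exact orderOf_eq_prime (p := 2) (by rw [pow_two, hu]) h1)
  obtain ⟨Q', hQ'⟩ := h2.exists_le_sylow
  rw [Subsingleton.elim Q' Q] at hQ'
  exact hQ' (mem_zpowers _)

theorem cent_involution_le (hC : D.Small) {u : G} (hu : u ∈ (D.P : Subgroup G)) (hu1 : u ≠ 1)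
    {x : G} (hx : x * u = u * x) : x ∈ D.H := by
  obtain ⟨n, hn, rfl⟩ := D.exists_conj_eq hu hu1
  have h : n⁻¹ * x * n ∈ centralizer ({D.J} : Set G) := by
    rw [mem_centralizer_singleton_iff]
    calc n⁻¹ * x * n * D.J = n⁻¹ * (x * (n * D.J * n⁻¹)) * n := by group
      _ = D.J * (n⁻¹ * x * n) := by rw [hx]; group
  have := mul_mem (mul_mem hn (C_le_H hC h)) (inv_mem hn)
  simpa [mul_assoc] using this

/-- Two elements of `P` conjugate under `t` force `t` into the normalizer. -/
theorem mem_H_of_swap (hC : D.Small) {t u : G} (ht : t * t = 1) (hu : u ∈ (D.P : Subgroup G))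
    (hu1 : u ≠ 1) (htu : t * u * t ∈ (D.P : Subgroup G)) : t ∈ D.H := by
  have hti : t⁻¹ = t := inv_eq_of_mul_eq_one_left ht
  refine mem_normalizer_iff.2 fun z => ?_
  have key : ∀ z ∈ (D.P : Subgroup G), t * z * t⁻¹ ∈ (D.P : Subgroup G) := by
    intro z hz
    rw [hti]
    refine mem_P_of_involution ?_ (cent_involution_le hC htu (fun h => hu1 ?_) ?_)
    · calc t * z * t * (t * z * t) = t * z * (t * t) * z * t := by group
        _ = t * (z * z) * t := by rw [ht]; group
        _ = 1 := by rw [D.sq z hz, mul_one, ht]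
    · calc u = t * t * u * (t * t) := by rw [ht]; group
        _ = t * (t * u * t) * t := by group
        _ = 1 := by rw [h, mul_one, ht]
    · calc t * z * t * (t * u * t) = t * z * (t * t) * u * t := by group
        _ = t * (z * u) * t := by rw [ht]; group
        _ = t * (u * z) * t := by rw [D.comm hz hu]
        _ = t * u * (t * t) * z * t := by rw [ht]; group
        _ = t * u * t * (t * z * t) := by group
  refine ⟨key z, fun h => ?_⟩
  have := key _ h
  rw [hti] at this
  rwa [show t * (t * z * t) * t = (t * t) * z * (t * t) by group, ht, one_mul, mul_one] at this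

variable (D) in
/-- The elements of the normalizer inverted by `t`. -/
def inv (t : G) : Set G := {d | d ∈ D.H ∧ t * d * t = d⁻¹}

variable (D) in
/-- The subgroup `H ∩ tHt`. -/
def meet {t : G} (ht : t * t = 1) : Subgroup G where
  carrier := {d | d ∈ D.H ∧ t * d * t ∈ D.H}
  one_mem' := ⟨one_mem _, by rw [mul_one, ht]; exact one_mem _⟩
  mul_mem' := fun {a b} ha hb => ⟨mul_mem ha.1 hb.1, by
    have : t * (a * b) * t = t * a * t * (t * b * t) := by
      calc t * (a * b) * t = t * a * (t * t) * b * t := by rw [ht]; group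
        _ = _ := by group
    rw [this]; exact mul_mem ha.2 hb.2⟩
  inv_mem' := fun {a} ha => ⟨inv_mem ha.1, by
    have : t * a⁻¹ * t = (t * a * t)⁻¹ := by
      rw [mul_inv_rev, mul_inv_rev, inv_eq_of_mul_eq_one_left ht, mul_assoc]
    rw [this]; exact inv_mem ha.2⟩

theorem inv_subset_meet {t : G} (ht : t * t = 1) :
    D.inv t ⊆ (D.meet ht : Set G) := fun d hd => ⟨hd.1, hd.2 ▸ inv_mem hd.1⟩

theorem meet_dvd (hC : D.Small) {t : G} (ht : t * t = 1) (htH : t ∉ D.H) :
    Nat.card (D.meet ht) ∣ 21 := by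
  haveI : Fact (Nat.Prime 2) := ⟨Nat.prime_two⟩
  have h168 : Nat.card (D.meet ht) ∣ 168 := D.card_H ▸ card_dvd_of_le fun d hd => hd.1
  have hodd : ¬ 2 ∣ Nat.card (D.meet ht) := by
    intro h
    obtain ⟨u, hu⟩ := exists_prime_orderOf_dvd_card' 2 h
    have hu' : orderOf (u : G) = 2 := by rwa [orderOf_coe]
    have huu : (u : G) * u = 1 := by rw [← pow_two, ← hu', pow_orderOf_eq_one]
    have hu1 : (u : G) ≠ 1 := fun h => by rw [h, orderOf_one] at hu'; omega
    refine htH (mem_H_of_swap hC ht (mem_P_of_involution huu u.2.1) hu1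
      (mem_P_of_involution ?_ u.2.2))
    calc t * (u : G) * t * (t * u * t) = t * u * (t * t) * u * t := by group
      _ = t * ((u : G) * u) * t := by rw [ht]; group
      _ = 1 := by rw [huu, mul_one, ht]
  have hcop : Nat.Coprime (Nat.card (D.meet ht)) 8 := by
    rw [show (8 : ℕ) = 2 ^ 3 by norm_num]
    exact ((Nat.prime_two.coprime_iff_not_dvd.2 hodd).symm).pow_right 3
  exact hcop.dvd_of_dvd_mul_left (by simpa using h168)

variable (D) in
include D in
theorem not_conj_fix_seven {t p : G} (ht : t * t = 1) (ht1 : t ≠ 1) (hp : orderOf p = 7) :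
    t * p * t ≠ p := fun h => by
  refine D.not_commute_seven hp ht ht1 ?_
  calc p * t = t * p * t * t := by rw [h]
    _ = t * p * (t * t) := by group
    _ = t * p := by rw [ht, mul_one]

/-- No element of order three of the normalizer commutes with one of order seven. -/
theorem not_commute_three {c p : G} (hcH : c ∈ D.H) (hc : orderOf c = 3) (hpH : p ∈ D.H)
    (hp : orderOf p = 7) : c * p ≠ p * c := by
  intro h
  obtain ⟨x, hx, hx1, hxc, huniq⟩ := D.exists_unique_fixed hcH hc
  rcases huniq _ (D.conj_mem_P hpH hx) (by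
    calc c * (p * x * p⁻¹) = c * p * x * p⁻¹ := by group
      _ = p * (c * x) * p⁻¹ := by rw [h]; group
      _ = p * x * (p⁻¹ * (p * c)) * p⁻¹ := by rw [hxc]; group
      _ = p * x * p⁻¹ * c := by rw [← h]; group) with e | e
  · exact hx1 (conj_eq_one_iff.1 e)
  · exact D.not_commute_seven hp (D.sq x hx) hx1 (mul_inv_eq_iff_eq_mul.1 e)

/-- The inverted elements of the normalizer form a group of order 7, or there are fewer than 7. -/
theorem inv_cases (hC : D.Small) {t : G} (ht : t * t = 1) (htH : t ∉ D.H) :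
    (D.inv t).ncard < 7 ∨ ∃ R : Subgroup G, Nat.card R = 7 ∧ R ≤ D.H ∧ D.inv t = (R : Set G) ∧
      ∀ R' : Subgroup G, Nat.card R' = 7 → R' ≤ D.H → (R' : Set G) ⊆ D.inv t → R' = R := by
  classical
  haveI : Fact (Nat.Prime 7) := ⟨by norm_num⟩
  have ht1 : t ≠ 1 := fun h => htH (h ▸ one_mem _)
  have hd := meet_dvd hC ht htH
  by_cases h7 : 7 ∣ Nat.card (D.meet ht)
  swap
  · refine Or.inl (lt_of_le_of_lt (Set.ncard_le_ncard (inv_subset_meet ht) (Set.toFinite _)) ?_)
    rw [← Nat.card_coe_set_eq, SetLike.coe_sort_coe]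
    have : Nat.card (D.meet ht) ∈ Nat.divisors 21 := Nat.mem_divisors.2 ⟨hd, by norm_num⟩
    rw [show Nat.divisors 21 = {1, 3, 7, 21} by decide +kernel] at this
    simp only [Finset.mem_insert, Finset.mem_singleton] at this
    rcases this with h | h | h | h <;> rw [h] at h7 ⊢ <;> first | omega | (norm_num at h7)
  refine Or.inr ?_
  set E : Subgroup G := D.meet ht with hE
  obtain ⟨p, hp⟩ := exists_prime_orderOf_dvd_card' (G := ↥E) 7 h7
  have hnum : Nat.card (Sylow 7 E) = 1 := by
    obtain ⟨Q⟩ := Sylow.nonempty (p := 7) (G := E)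
    have h1 := card_sylow_modEq_one 7 E
    have h2 : Nat.card (Sylow 7 E) ∣ 21 := by
      rw [Q.card_eq_index_normalizer]
      exact (index_dvd_card _).trans hd
    have : Nat.card (Sylow 7 E) ∈ Nat.divisors 21 := Nat.mem_divisors.2 ⟨h2, by norm_num⟩
    rw [show Nat.divisors 21 = {1, 3, 7, 21} by decide +kernel] at this
    simp only [Finset.mem_insert, Finset.mem_singleton] at this
    rcases this with h | h | h | h <;> rw [h] at h1 <;> first | exact h | exact absurd h1 (by decide)
  obtain ⟨hsub, -⟩ := Nat.card_eq_one_iff_unique.1 hnum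
  set R : Subgroup G := zpowers (p : G) with hR
  have hp' : orderOf (p : G) = 7 := by rwa [orderOf_coe]
  have hR7 : Nat.card R = 7 := by rw [hR, Nat.card_zpowers, hp']
  have huniq : ∀ z : E, orderOf z = 7 → z ∈ zpowers p := by
    intro z hz
    obtain ⟨Q₁, hQ₁⟩ := (IsPGroup.of_card (p := 7) (G := zpowers z) (n := 1) (by
      rw [Nat.card_zpowers, hz, pow_one])).exists_le_sylow
    obtain ⟨Q₂, hQ₂⟩ := (IsPGroup.of_card (p := 7) (G := zpowers p) (n := 1) (by
      rw [Nat.card_zpowers, hp, pow_one])).exists_le_sylow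
    have hQ : (Q₂ : Subgroup E) = zpowers p := by
      refine (eq_of_le_of_card_ge hQ₂ ?_).symm
      rw [Nat.card_zpowers, hp]
      obtain ⟨k, hk⟩ := IsPGroup.iff_card.1 Q₂.isPGroup'
      have hk21 : 7 ^ k ∣ 21 := hk ▸ (card_subgroup_dvd_card _).trans hd
      rcases Nat.lt_or_ge k 2 with hk2 | hk2
      · rw [hk]; interval_cases k <;> norm_num
      · have h49 := (Nat.pow_dvd_pow 7 hk2).trans hk21
        norm_num at h49
    rw [← hQ, ← Subsingleton.elim Q₁ Q₂]
    exact hQ₁ (mem_zpowers _)
  have hmeet : ∀ d : G, d ∈ E → t * d * t ∈ E := fun d hd => ⟨hd.2, by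
    rw [show t * (t * d * t) * t = (t * t) * d * (t * t) by group, ht, one_mul, mul_one]
    exact hd.1⟩
  have hhom : ∀ a b : G, t * (a * b) * t = t * a * t * (t * b * t) := fun a b => by
    calc t * (a * b) * t = t * a * (t * t) * b * t := by rw [ht]; group
      _ = _ := by group
  -- `t` inverts `p`
  have hinvp : t * (p : G) * t = (p : G)⁻¹ := by
    have hmem : (⟨_, hmeet _ p.2⟩ : E) ∈ zpowers p := huniq _ (by
      rw [← orderOf_coe]
      show orderOf (t * (p : G) * t) = 7
      rw [← hp', show t * (p : G) * t = MulAut.conj t (p : G) by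
        simp [inv_eq_of_mul_eq_one_left ht], MulEquiv.orderOf_eq])
    obtain ⟨k, hk⟩ := hmem
    have hk' : (p : G) ^ k = t * (p : G) * t := by
      have := congrArg Subtype.val hk; simpa using this
    have hk2 : ((p : G) ^ k) ^ k = p := by
      conv_lhs => rw [hk']
      rw [show t * (p : G) * t = MulAut.conj t (p : G) by simp [inv_eq_of_mul_eq_one_left ht],
        ← map_zpow, hk', MulAut.conj_apply, inv_eq_of_mul_eq_one_left ht]
      rw [show t * (t * (p : G) * t) * t = (t * t) * p * (t * t) by group, ht, one_mul, mul_one]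
    have hdiv : ((7 : ℕ) : ℤ) ∣ k * k - 1 := by
      rw [← hp', orderOf_dvd_iff_zpow_eq_one, zpow_sub, zpow_mul, hk2, zpow_one, mul_inv_cancel]
    have hdec : k * k - 1 = (k - 1) * (k + 1) := by ring
    rw [hdec] at hdiv
    rcases (Int.prime_iff_natAbs_prime.2 (by norm_num : Nat.Prime 7) : Prime ((7 : ℕ) : ℤ)).dvd_or_dvd
      hdiv with h | h
    · exfalso
      refine not_conj_fix_seven D ht ht1 hp' ?_
      rw [← hk']
      have := orderOf_dvd_iff_zpow_eq_one.1 (hp'.symm ▸ h : ((orderOf (p : G)) : ℤ) ∣ k - 1)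
      rwa [zpow_sub, zpow_one, mul_inv_eq_one] at this
    · rw [← hk']
      have := orderOf_dvd_iff_zpow_eq_one.1 (hp'.symm ▸ h : ((orderOf (p : G)) : ℤ) ∣ k + 1)
      rw [zpow_add, zpow_one] at this
      exact eq_inv_of_mul_eq_one_left this
  have hRinv : (R : Set G) ⊆ D.inv t := by
    rintro _ ⟨j, rfl⟩
    refine ⟨zpow_mem p.2.1 j, ?_⟩
    show t * (p : G) ^ j * t = ((p : G) ^ j)⁻¹
    have h := map_zpow (MulAut.conj t) (p : G) j
    simp only [MulAut.conj_apply, inv_eq_of_mul_eq_one_left ht] at h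
    rw [h, hinvp, inv_zpow]
  have hconj : ∀ x ∈ E, x * (p : G) * x⁻¹ ∈ R := by
    intro x hx
    have h := huniq (⟨x, hx⟩ * p * ⟨x, hx⟩⁻¹) (by
      rw [show (⟨x, hx⟩ : E) * p * ⟨x, hx⟩⁻¹ = MulAut.conj ⟨x, hx⟩ p from rfl,
        MulEquiv.orderOf_eq, hp])
    obtain ⟨j, hj⟩ := h
    exact ⟨j, by simpa using congrArg Subtype.val hj⟩
  have heq : D.inv t = (R : Set G) := by
    refine Set.Subset.antisymm (fun x hx => ?_) hRinv
    by_contra hxR
    have hxE : x ∈ E := inv_subset_meet ht hx
    have hq := (hRinv (hconj x hxE)).2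
    rw [hhom, hhom, hinvp, hx.2] at hq
    have htxi : t * x⁻¹ * t = x := by
      have : t * x⁻¹ * t = (t * x * t)⁻¹ := by
        rw [mul_inv_rev, mul_inv_rev, inv_eq_of_mul_eq_one_left ht, mul_assoc]
      rw [this, hx.2, inv_inv]
    rw [htxi] at hq
    -- the square of `x` commutes with `p`
    have hq' : x * x * (p : G) = p * (x * x) := by
      have h1 : x⁻¹ * (p : G) * x = x * (p : G) * x⁻¹ := by
        calc x⁻¹ * (p : G) * x = (x⁻¹ * (p : G)⁻¹ * x)⁻¹ := by group
          _ = x * (p : G) * x⁻¹ := by rw [hq, inv_inv]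
      calc x * x * (p : G) = x * (x * (p : G) * x⁻¹) * x := by group
        _ = x * (x⁻¹ * (p : G) * x) * x := by rw [h1]
        _ = p * (x * x) := by group
    have ho21 : orderOf x ∣ 21 := by
      rw [← orderOf_mk (H := E) x hxE]; exact (_root_.orderOf_dvd_natCard _).trans hd
    have hox : orderOf x ∈ Nat.divisors 21 := Nat.mem_divisors.2 ⟨ho21, by norm_num⟩
    rw [show Nat.divisors 21 = {1, 3, 7, 21} by decide +kernel] at hox
    simp only [Finset.mem_insert, Finset.mem_singleton] at hox
    rcases hox with h | h | h | h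
    · rw [orderOf_eq_one_iff] at h; exact hxR (h ▸ one_mem R)
    · refine not_commute_three (c := x) hx.1 h p.2.1 hp' ?_
      have hx3 : x * x = x⁻¹ :=
        eq_inv_of_mul_eq_one_left (by rw [← pow_two, ← pow_succ, show 2 + 1 = orderOf x from h.symm, pow_orderOf_eq_one])
      rw [hx3] at hq'
      calc x * (p : G) = x * ((p : G) * x⁻¹) * x := by group
        _ = p * x := by rw [← hq']; group
    · obtain ⟨j, hj⟩ := huniq ⟨x, hxE⟩ (by rw [orderOf_mk, h])
      exact hxR ⟨j, by simpa using congrArg Subtype.val hj⟩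
    · -- an element of order 21
      have h3 : orderOf (x ^ 7) = 3 := by rw [orderOf_pow' _ (by norm_num), h]; rfl
      have h7x : orderOf (x ^ 3) = 7 := by rw [orderOf_pow' _ (by norm_num), h]; rfl
      exact not_commute_three (pow_mem hx.1 7) h3 (pow_mem hx.1 3) h7x
        (pow_mul_comm x 7 3)
  refine ⟨R, hR7, (zpowers_le).2 p.2.1, heq, fun R' hR' _ hsub' => ?_⟩
  exact eq_of_le_of_card_ge (fun x hx => heq.subset (hsub' hx)) (by rw [hR', hR7])

end Cfsg.Agent.H65.CentSmallAlt.Base
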