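import Cfsg.Agent.Fusion.Basic
import Cfsg.Agent.H25.InvolutionTransfer
import Cfsg.Agent.S0205
import Mathlib.GroupTheory.Transfer
import Mathlib.GroupTheory.PGroup
import Mathlib.GroupTheory.GroupAction.ConjAct

/-!
Groups with elementary abelian Sylow 2-subgroups of order 8 and one class of involutions: fusion,
odd core, and the subgroup generated by the involutions.
-/

set_option autoImplicit false
set_option linter.unusedSectionVars false
set_option linter.style.haveILetI false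

namespace Cfsg.Agent.H65.CentSmallAlt

open Subgroup

variable (G : Type*) [Group G]

/-- The local data of an involution `J` with centralizer `2 × A₄` or `2 × A₅`. -/
structure Base where
  J : G
  hJ : orderOf J = 2
  P : Sylow 2 G
  card_P : Nat.card (P : Subgroup G) = 8
  sq : ∀ s ∈ (P : Subgroup G), s * s = 1
  hJP : J ∈ (P : Subgroup G)
  cent_P : centralizer ((P : Subgroup G) : Set G) ≤ P
  M : Subgroup G
  hMP : M ≤ (P : Subgroup G)
  hMi : M.relIndex (P : Subgroup G) = 2
  hJM : J ∉ M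
  y : G
  y_comm : y * J = J * y
  y_order : orderOf y = 3
  y_norm : y ∈ normalizer ((P : Subgroup G) : Set G)
  y_fix : ∀ s ∈ (P : Subgroup G), y * s = s * y → s = 1 ∨ s = J
  card_NC : Nat.card ↥(normalizer ((P : Subgroup G) : Set G) ⊓ centralizer ({J} : Set G)) = 24
  odd_trivial : ∀ K : Subgroup G, K ≤ centralizer ({J} : Set G) →
    (P : Subgroup G) ≤ normalizer (K : Set G) → Odd (Nat.card K) → K = ⊥
  no_index_two : ∀ N : Subgroup G, N.Normal → N.index ≠ 2
  seven : ¬ 7 ∣ Nat.card (centralizer ({J} : Set G))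

variable {G}

namespace Base

variable (D : Base G)

/-- The normalizer of the Sylow subgroup. -/
abbrev H : Subgroup G := normalizer ((D.P : Subgroup G) : Set G)

theorem P_le_H : (D.P : Subgroup G) ≤ D.H := le_normalizer

theorem comm {a b : G} (ha : a ∈ (D.P : Subgroup G)) (hb : b ∈ (D.P : Subgroup G)) :
    a * b = b * a := by
  have h1 : a⁻¹ = a := inv_eq_of_mul_eq_one_left (D.sq a ha)
  have h2 : b⁻¹ = b := inv_eq_of_mul_eq_one_left (D.sq b hb)
  have h3 : (a * b)⁻¹ = a * b := inv_eq_of_mul_eq_one_left (D.sq _ (mul_mem ha hb))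
  rw [← h3, mul_inv_rev, h1, h2]

theorem P_le_C : (D.P : Subgroup G) ≤ centralizer ({D.J} : Set G) := fun _ hx =>
  mem_centralizer_singleton_iff.2 (D.comm hx D.hJP)

theorem J_ne_one : D.J ≠ 1 := fun h => by
  have := D.hJ
  rw [h, orderOf_one] at this
  omega

/-- The conjugation action of the normalizer. -/
@[reducible] def act : MulAction D.H G :=
  MulAction.compHom G (ConjAct.toConjAct.toMonoidHom.comp D.H.subtype)

variable [Finite G]

theorem fusion {a : G} (ha : a ∈ (D.P : Subgroup G)) {g : G}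
    (hg : g * a * g⁻¹ ∈ (D.P : Subgroup G)) : ∃ n ∈ D.H, n * a * n⁻¹ = g * a * g⁻¹ := by
  have hle : (D.P : Subgroup G) ≤ centralizer ((D.P : Subgroup G) : Set G) := fun x hx =>
    mem_centralizer_iff.2 fun z hz => D.comm hz hx
  exact Cfsg.Agent.Fusion.burnside_fusion_centralizer D.P (hle ha) (hle hg)

theorem conj_mem_P {n : G} (hn : n ∈ D.H) {a : G} (ha : a ∈ (D.P : Subgroup G)) :
    n * a * n⁻¹ ∈ (D.P : Subgroup G) :=
  (mem_normalizer_iff.1 hn a).1 ha

theorem fusion_all_and_card : (∀ u ∈ (D.P : Subgroup G), u ≠ 1 → ∃ n ∈ D.H, n * D.J * n⁻¹ = u) ∧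
    Nat.card D.H = 168 := by
  classical
  haveI : Fact (Nat.Prime 2) := ⟨Nat.prime_two⟩
  haveI : Fact (Nat.Prime 3) := ⟨by norm_num⟩
  letI := D.act
  have hmem : ∀ u, u ∈ MulAction.orbit D.H D.J ↔ ∃ n ∈ D.H, n * D.J * n⁻¹ = u := fun u =>
    ⟨fun ⟨n, hn⟩ => ⟨n, n.2, hn⟩, fun ⟨n, hn, h⟩ => ⟨⟨n, hn⟩, h⟩⟩
  have hsub : MulAction.orbit D.H D.J ⊆ ((D.P : Subgroup G) : Set G) \ {1} := by
    intro u hu
    obtain ⟨n, hn, rfl⟩ := (hmem u).1 hu
    exact ⟨D.conj_mem_P hn D.hJP, fun h => D.J_ne_one (conj_eq_one_iff.1 h)⟩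
  have hstab : MulAction.stabilizer D.H D.J = (centralizer ({D.J} : Set G)).subgroupOf D.H := by
    ext n
    rw [MulAction.mem_stabilizer_iff, mem_subgroupOf, mem_centralizer_singleton_iff]
    exact mul_inv_eq_iff_eq_mul
  have hcard := card_mul_index (MulAction.stabilizer D.H D.J)
  rw [MulAction.index_stabilizer, hstab] at hcard
  have h24 : Nat.card ↥((centralizer ({D.J} : Set G)).subgroupOf D.H) = 24 := by
    rw [← D.card_NC, ← Nat.card_congr (subgroupOfEquivOfLe
      (inf_le_left : D.H ⊓ centralizer ({D.J} : Set G) ≤ D.H)).toEquiv, inf_subgroupOf_left]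
  rw [h24] at hcard
  have hodd : ¬ 2 ∣ (MulAction.orbit D.H D.J).ncard := by
    rw [← MulAction.index_stabilizer, hstab]
    intro h
    have h1 : ((centralizer ({D.J} : Set G)).subgroupOf D.H).index ∣
        (D.P : Subgroup G).relIndex D.H :=
      index_dvd_of_le (fun x hx => D.P_le_C hx)
    exact D.P.not_dvd_index ((h.trans h1).trans (relIndex_dvd_index_of_le D.P_le_H))
  have h7 : (MulAction.orbit D.H D.J).ncard ≤ 7 := by
    refine (Set.ncard_le_ncard hsub).trans ?_
    rw [Set.ncard_sdiff_singleton_of_mem (one_mem _), ← Nat.card_coe_set_eq]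
    simp only [SetLike.coe_sort_coe, D.card_P, le_refl]
  have hmod : (MulAction.orbit D.H D.J).ncard % 3 = 1 := by
    let Q : Subgroup D.H := zpowers ⟨D.y, D.y_norm⟩
    have hQ : IsPGroup 3 Q := IsPGroup.of_card (n := 1) (by
      rw [Nat.card_zpowers, orderOf_mk, D.y_order, pow_one])
    have h := hQ.card_modEq_card_fixedPoints (MulAction.orbit D.H D.J)
    have hfix : MulAction.fixedPoints Q (MulAction.orbit D.H D.J) =
        {⟨D.J, MulAction.mem_orbit_self _⟩} := by
      ext ⟨u, hu⟩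
      simp only [MulAction.mem_fixedPoints, Set.mem_singleton_iff, Subtype.mk.injEq]
      constructor
      · intro hf
        have h0 := congrArg Subtype.val (hf ⟨⟨D.y, D.y_norm⟩, mem_zpowers _⟩)
        change D.y * u * D.y⁻¹ = u at h0
        obtain ⟨hu1, hu2⟩ := hsub hu
        exact (D.y_fix u hu1 (mul_inv_eq_iff_eq_mul.1 h0)).resolve_left hu2
      · rintro rfl ⟨q, hq⟩
        apply Subtype.ext
        obtain ⟨k, rfl⟩ := hq
        show D.y ^ k * D.J * (D.y ^ k)⁻¹ = D.J
        rw [((show Commute D.y D.J from D.y_comm).zpow_left k).eq, mul_inv_cancel_right]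
    rw [hfix, Nat.card_coe_set_eq, Nat.card_coe_set_eq, Set.ncard_singleton] at h
    exact h
  have hne1 : (MulAction.orbit D.H D.J).ncard ≠ 1 := by
    intro h1
    obtain ⟨a, ha⟩ := Set.ncard_eq_one.1 h1
    rcases H25.thompson_transfer D.P D.M D.hMP D.hMi D.J D.hJ D.hJP D.hJM with
      ⟨N, hN, hNi, -⟩ | ⟨g, hg⟩
    · exact D.no_index_two N hN hNi
    · obtain ⟨n, hn, e⟩ := D.fusion D.hJP (D.hMP hg)
      have e1 : n * D.J * n⁻¹ ∈ MulAction.orbit D.H D.J := (hmem _).2 ⟨n, hn, rfl⟩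
      have e2 : D.J ∈ MulAction.orbit D.H D.J := MulAction.mem_orbit_self _
      rw [ha, Set.mem_singleton_iff] at e1 e2
      rw [← e, e1, ← e2] at hg
      exact D.hJM hg
  have hO : (MulAction.orbit D.H D.J).ncard = 7 := by omega
  refine ⟨fun u hu hu1 => (hmem u).1 ?_, by rw [← hcard, hO]⟩
  rw [Set.eq_of_subset_of_ncard_le hsub ?_]
  · exact ⟨hu, hu1⟩
  · rw [hO, Set.ncard_sdiff_singleton_of_mem (one_mem _), ← Nat.card_coe_set_eq]
    simp only [SetLike.coe_sort_coe, D.card_P, le_refl]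

theorem exists_conj_eq {u : G} (hu : u ∈ (D.P : Subgroup G)) (hu1 : u ≠ 1) :
    ∃ n ∈ D.H, n * D.J * n⁻¹ = u := D.fusion_all_and_card.1 u hu hu1

theorem card_H : Nat.card D.H = 168 := D.fusion_all_and_card.2

/-- All involutions are conjugate to `J`. -/
theorem exists_conj_of_involution {u : G} (hu : u * u = 1) (hu1 : u ≠ 1) :
    ∃ g : G, g * D.J * g⁻¹ = u := by
  haveI : Fact (Nat.Prime 2) := ⟨Nat.prime_two⟩
  obtain ⟨Q, hQ⟩ := (IsPGroup.of_card (p := 2) (G := zpowers u) (n := 1) (by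
    rw [Nat.card_zpowers, pow_one, orderOf_eq_prime (p := 2) (by rw [pow_two, hu]) hu1])).exists_le_sylow
  obtain ⟨g, hg⟩ := MulAction.exists_smul_eq G Q D.P
  have hu' : g * u * g⁻¹ ∈ (D.P : Subgroup G) := by
    rw [← hg, Sylow.coe_subgroup_smul]
    exact ⟨u, hQ (mem_zpowers u), rfl⟩
  obtain ⟨n, -, hn⟩ := D.exists_conj_eq hu' (fun h => hu1 (conj_eq_one_iff.1 h))
  refine ⟨g⁻¹ * n, ?_⟩
  calc g⁻¹ * n * D.J * (g⁻¹ * n)⁻¹ = g⁻¹ * (n * D.J * n⁻¹) * g := by group
    _ = u := by rw [hn]; group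

include D in
/-- No element of order seven centralises an involution. -/
theorem not_commute_seven {r u : G} (hr : orderOf r = 7) (hu : u * u = 1) (hu1 : u ≠ 1) :
    r * u ≠ u * r := by
  intro h
  obtain ⟨g, rfl⟩ := D.exists_conj_of_involution hu hu1
  refine D.seven ?_
  have hmem : g⁻¹ * r * g ∈ centralizer ({D.J} : Set G) := by
    rw [mem_centralizer_singleton_iff]
    calc g⁻¹ * r * g * D.J = g⁻¹ * (r * (g * D.J * g⁻¹)) * g := by group
      _ = D.J * (g⁻¹ * r * g) := by rw [h]; group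
  have ho : orderOf (g⁻¹ * r * g) = 7 := by
    rw [show g⁻¹ * r * g = MulAut.conj g⁻¹ r by simp, MulEquiv.orderOf_eq, hr]
  have := orderOf_dvd_natCard (⟨_, hmem⟩ : centralizer ({D.J} : Set G))
  rwa [orderOf_mk, ho] at this

/-- An involution without fixed points on a subgroup inverts it. -/
theorem inverts_of_fixed {K : Subgroup G} {u : G} (hu : u * u = 1)
    (hK : ∀ k ∈ K, u * k * u ∈ K) (hfix : ∀ k ∈ K, u * k = k * u → k = 1) {x : G} (hx : x ∈ K) :
    u * x * u = x⁻¹ := by
  let f : K → K := fun k => ⟨(k : G)⁻¹ * (u * k * u), mul_mem (inv_mem k.2) (hK k k.2)⟩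
  have hf : Function.Injective f := by
    intro a b hab
    have h : (a : G)⁻¹ * (u * a * u) = (b : G)⁻¹ * (u * b * u) := congrArg Subtype.val hab
    have h2 : u * ((b : G) * (a : G)⁻¹) = (b : G) * (a : G)⁻¹ * u := by
      calc u * ((b : G) * (a : G)⁻¹)
          = u * b * (u * u) * (a : G)⁻¹ := by rw [hu, mul_one, mul_assoc]
        _ = b * ((b : G)⁻¹ * (u * b * u)) * u * (a : G)⁻¹ := by group
        _ = b * ((a : G)⁻¹ * (u * a * u)) * u * (a : G)⁻¹ := by rw [h]
        _ = b * (a : G)⁻¹ * u * (a * (u * u) * (a : G)⁻¹) := by group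
        _ = b * (a : G)⁻¹ * u := by rw [hu, mul_one, mul_inv_cancel, mul_one]
    exact Subtype.ext (mul_inv_eq_one.1 (hfix _ (mul_mem b.2 (inv_mem a.2)) h2)).symm
  obtain ⟨k, hk⟩ := (Finite.injective_iff_surjective.1 hf) ⟨x, hx⟩
  have hk' : (k : G)⁻¹ * (u * k * u) = x := congrArg Subtype.val hk
  have hui : u⁻¹ = u := inv_eq_of_mul_eq_one_left hu
  rw [← hk']
  calc u * ((k : G)⁻¹ * (u * k * u)) * u = u * (k : G)⁻¹ * u * k * (u * u) := by group
    _ = ((k : G)⁻¹ * (u * k * u))⁻¹ := by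
      rw [hu, mul_one, mul_inv_rev, mul_inv_rev, mul_inv_rev, inv_inv, hui]
      group

/-- An odd subgroup normalised by the Sylow subgroup is trivial. -/
theorem eq_bot_of_odd {K : Subgroup G} (hP : (D.P : Subgroup G) ≤ normalizer (K : Set G))
    (hodd : Odd (Nat.card K)) : K = ⊥ := by
  have hinv : ∀ u ∈ (D.P : Subgroup G), u ≠ 1 → ∀ k ∈ K, u * k * u = k⁻¹ := by
    intro u hu hu1 k hk
    have hui : u⁻¹ = u := inv_eq_of_mul_eq_one_left (D.sq u hu)
    refine inverts_of_fixed (D.sq u hu) (fun x hx => ?_) (fun x hx hcomm => ?_) hk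
    · have := (mem_normalizer_iff.1 (hP hu) x).1 hx
      rwa [hui] at this
    · obtain ⟨n, hn, rfl⟩ := D.exists_conj_eq hu hu1
      let K' : Subgroup G := (K ⊓ centralizer ({n * D.J * n⁻¹} : Set G)).map
        (MulAut.conj n⁻¹).toMonoidHom
      have hmem : ∀ z, z ∈ K' ↔ n * z * n⁻¹ ∈ K ⊓ centralizer ({n * D.J * n⁻¹} : Set G) := by
        intro z
        constructor
        · rintro ⟨w, hw, rfl⟩
          simpa [MulEquiv.coe_toMonoidHom, mul_assoc] using hw
        · intro hz
          exact ⟨_, hz, by simp [mul_assoc]⟩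
      have h1 : K' ≤ centralizer ({D.J} : Set G) := by
        intro z hz
        have h := mem_centralizer_singleton_iff.1 ((hmem z).1 hz).2
        rw [mem_centralizer_singleton_iff]
        calc z * D.J = n⁻¹ * (n * z * n⁻¹ * (n * D.J * n⁻¹)) * n := by group
          _ = D.J * z := by rw [h]; group
      have h2 : (D.P : Subgroup G) ≤ normalizer (K' : Set G) := by
        intro p hp
        have key : ∀ q ∈ (D.P : Subgroup G), ∀ z ∈ K', q * z * q⁻¹ ∈ K' := by
          intro q hq z hz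
          obtain ⟨hz1, hz2⟩ := (hmem z).1 hz
          have hq' := D.conj_mem_P hn hq
          have e : n * (q * z * q⁻¹) * n⁻¹ =
              (n * q * n⁻¹) * (n * z * n⁻¹) * (n * q * n⁻¹)⁻¹ := by group
          rw [hmem, e]
          have hqc : n * q * n⁻¹ ∈ centralizer ({n * D.J * n⁻¹} : Set G) :=
            mem_centralizer_singleton_iff.2 (D.comm hq' hu)
          exact Subgroup.mem_inf.2 ⟨(mem_normalizer_iff.1 (hP hq') _).1 hz1,
            mul_mem (mul_mem hqc hz2) (inv_mem hqc)⟩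
        refine mem_normalizer_iff.2 fun z => ⟨key p hp z, fun h => ?_⟩
        have := key p⁻¹ (inv_mem hp) _ h
        simpa [mul_assoc] using this
      have h3 : Odd (Nat.card K') := by
        rw [card_map_of_injective (MulAut.conj n⁻¹).injective]
        exact hodd.of_dvd_nat (card_dvd_of_le inf_le_left)
      have h := D.odd_trivial K' h1 h2 h3
      have hxK' : n⁻¹ * x * n ∈ K' :=
        ⟨x, ⟨hx, mem_centralizer_singleton_iff.2 hcomm.symm⟩, by simp⟩
      rw [h, mem_bot] at hxK'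
      calc x = n * (n⁻¹ * x * n) * n⁻¹ := by group
        _ = 1 := by rw [hxK']; group
  rw [eq_bot_iff]
  intro k hk
  obtain ⟨u, hu, hu1, huJ⟩ : ∃ u ∈ (D.P : Subgroup G), u ≠ 1 ∧ u ≠ D.J := by
    by_contra h
    push Not at h
    have hsub : ((D.P : Subgroup G) : Set G) ⊆ {1, D.J} := fun u hu => by
      by_cases h1 : u = 1
      · exact Or.inl h1
      · exact Or.inr (h u hu h1)
    have := Set.ncard_le_ncard hsub (Set.toFinite _)
    rw [← Nat.card_coe_set_eq, SetLike.coe_sort_coe, D.card_P,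
      Set.ncard_pair D.J_ne_one.symm] at this
    omega
  have hJu : D.J * u ≠ 1 := fun h =>
    huJ (by rw [← inv_eq_of_mul_eq_one_right h, inv_eq_of_mul_eq_one_left (D.sq _ D.hJP)])
  have e := hinv _ (mul_mem D.hJP hu) hJu k hk
  have e2 : D.J * u * k * (D.J * u) = k := by
    calc D.J * u * k * (D.J * u) = D.J * (u * k * u) * D.J := by
          rw [D.comm D.hJP hu]
          calc u * D.J * k * (u * D.J) = (u * D.J) * k * (u * D.J) := rfl
            _ = (D.J * u) * k * (u * D.J) := by rw [D.comm hu D.hJP]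
            _ = D.J * (u * k * u) * D.J := by group
      _ = k := by rw [hinv u hu hu1 k hk, hinv _ D.hJP D.J_ne_one _ (inv_mem hk), inv_inv]
  rw [e2] at e
  rw [mem_bot]
  have hk2 : k ^ 2 = 1 := by rw [pow_two]; nth_rewrite 1 [e]; exact inv_mul_cancel k
  by_contra hk1
  have ho := orderOf_eq_prime hk2 hk1
  have hd := orderOf_dvd_natCard (⟨k, hk⟩ : K)
  rw [orderOf_mk, ho] at hd
  exact Nat.not_even_iff_odd.2 hodd (even_iff_two_dvd.2 hd)

end Base

end Cfsg.Agent.H65.CentSmallAlt
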