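import Cfsg.Agent.H65.CentSmallAlt.Reduce
import Cfsg.Agent.H65.CentSmallAlt.Local
import Cfsg.Agent.Coprime.J1.Local

/-!
The two model centralizers `2 × A₄` and `2 × A₅`, and the local data they give.
-/

set_option autoImplicit false
set_option linter.unusedSectionVars false
set_option linter.style.haveILetI false

namespace Cfsg.Agent.H65.CentSmallAlt

open Subgroup

/-- Decidable facts about a model centralizer `2 × A`. -/
structure Model (K : Type) [Group K] [Fintype K] where
  z : K
  inS : K → Prop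
  inM : K → Prop
  y : K
  one_S : inS 1
  mul_S : ∀ a b, inS a → inS b → inS (a * b)
  sq_S : ∀ a, inS a → a * a = 1
  z_S : inS z
  card_S : Nat.card {a : K // inS a} = 8
  mul_M : ∀ a b, inM a → inM b → inM (a * b)
  one_M : inM 1
  M_le : ∀ a, inM a → inS a
  z_M : ¬ inM z
  dich_M : ∀ a, inS a → inM a ∨ inM (z * a)
  center : ∀ c : K, (∀ g : K, g * c = c * g) → c = 1 ∨ c = z
  self_cent : ∀ c : K, (∀ s, inS s → c * s = s * c) → inS c
  y_three : y * y * y = 1 ∧ y ≠ 1
  y_norm : ∀ s, inS s → inS (y * s * y⁻¹)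
  y_fix : ∀ s, inS s → y * s = s * y → s = 1 ∨ s = z
  card_N : Nat.card {g : K // ∀ s, inS s → inS (g * s * g⁻¹)} = 24
  odd : ∀ k : K, k ^ 15 = 1 →
    (∀ s, inS s → s * k * s⁻¹ * k⁻¹ = 1 ∨ s * k * s⁻¹ * k⁻¹ * (s * k * s⁻¹ * k⁻¹) ≠ 1) →
    (∀ s, inS s → ∀ t, inS t → s * k * s⁻¹ * (t * k * t⁻¹) * (s * k * s⁻¹) * k = 1 ∨
      s * k * s⁻¹ * (t * k * t⁻¹) * (s * k * s⁻¹) * k *
        (s * k * s⁻¹ * (t * k * t⁻¹) * (s * k * s⁻¹) * k) ≠ 1) → k = 1
  exp : ∀ k : K, k ^ 30 = 1
  seven : ¬ 7 ∣ Nat.card K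
  sylow : ¬ 16 ∣ Nat.card K

variable {G : Type*} [Group G] [Finite G]

theorem Model.exists_base {K : Type} [Group K] [Fintype K] (D : Model K) {J : G}
    (hJ : IsTwoCentralInvolution J) (h2 : ∀ N : Subgroup G, N.Normal → N.index ≠ 2)
    (e : centralizer ({J} : Set G) ≃* K) :
    ∃ B : Base G, B.J = J := by
  classical
  haveI : Fact (Nat.Prime 2) := ⟨Nat.prime_two⟩
  obtain ⟨hJ2, P₁, hJP₁, hP₁⟩ := hJ
  let emb : K →* G := (centralizer ({J} : Set G)).subtype.comp e.symm.toMonoidHom
  have hinj : Function.Injective emb := Subtype.val_injective.comp e.symm.injective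
  have hmemC : ∀ c, emb c ∈ centralizer ({J} : Set G) := fun c => (e.symm c).2
  have hsurj : ∀ g ∈ centralizer ({J} : Set G), ∃ c, emb c = g := fun g hg =>
    ⟨e ⟨g, hg⟩, by simp [emb]⟩
  have hJC : J ∈ centralizer ({J} : Set G) := mem_centralizer_singleton_iff.2 rfl
  have hz : emb D.z = J := by
    obtain ⟨c, hc⟩ := hsurj J hJC
    rcases D.center c (fun g => hinj (by
      rw [map_mul, map_mul, hc]
      exact mem_centralizer_singleton_iff.1 (hmemC g))) with rfl | rfl
    · exfalso
      rw [map_one] at hc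
      rw [← hc, orderOf_one] at hJ2
      omega
    · exact hc
  have hinvS : ∀ a, D.inS a → D.inS a⁻¹ := fun a ha => by
    rwa [inv_eq_of_mul_eq_one_left (D.sq_S a ha)]
  let S₀ : Subgroup K :=
    { carrier := {a | D.inS a}
      one_mem' := D.one_S
      mul_mem' := fun {a b} => D.mul_S a b
      inv_mem' := fun {a} => hinvS a }
  let M₀ : Subgroup K :=
    { carrier := {a | D.inM a}
      one_mem' := D.one_M
      mul_mem' := fun {a b} => D.mul_M a b
      inv_mem' := fun {a} ha => by
        show D.inM a⁻¹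
        rwa [inv_eq_of_mul_eq_one_left (D.sq_S a (D.M_le a ha))] }
  have hScard : Nat.card (S₀.map emb) = 8 := by
    rw [card_map_of_injective hinj]; exact D.card_S
  obtain ⟨Q, hQ⟩ := (IsPGroup.of_card (p := 2) (G := ↥(S₀.map emb)) (n := 3)
    (by rw [hScard]; norm_num)).exists_le_sylow
  have hQ8 : Nat.card (Q : Subgroup G) = 8 := by
    refine le_antisymm ?_ (hScard ▸ card_le_of_le hQ)
    rw [Nat.card_congr (Sylow.equiv Q P₁).toEquiv]
    have hP₁C : (P₁ : Subgroup G) ≤ centralizer ({J} : Set G) := fun x hx =>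
      mem_centralizer_singleton_iff.2 (hP₁ x hx)
    obtain ⟨k, hk⟩ := IsPGroup.iff_card.1 P₁.isPGroup'
    have hdvd := card_dvd_of_le hP₁C
    rw [hk, Nat.card_congr e.toEquiv] at hdvd
    have hk3 : k ≤ 3 := by
      by_contra hc
      exact D.sylow ((pow_dvd_pow 2 (by omega : 4 ≤ k)).trans hdvd)
    rw [hk]
    exact (Nat.pow_le_pow_right (by norm_num) hk3).trans (by norm_num)
  have hQeq : (Q : Subgroup G) = S₀.map emb :=
    (eq_of_le_of_card_ge hQ (by rw [hScard, hQ8])).symm
  have hmemQ : ∀ g, g ∈ (Q : Subgroup G) ↔ ∃ c, D.inS c ∧ emb c = g := fun g => by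
    rw [hQeq]; exact Subgroup.mem_map
  have hyord : orderOf (emb D.y) = 3 := by
    rw [orderOf_injective emb hinj]
    haveI : Fact (Nat.Prime 3) := ⟨by norm_num⟩
    exact orderOf_eq_prime (p := 3)
      (by rw [pow_succ, pow_two]; exact D.y_three.1) D.y_three.2
  have hnorm : ∀ g : K, emb g ∈ normalizer ((Q : Subgroup G) : Set G) ↔
      ∀ s, D.inS s → D.inS (g * s * g⁻¹) := fun g => by
    constructor
    · intro hg s hs
      obtain ⟨c, hc, e⟩ := (hmemQ _).1 ((mem_normalizer_iff.1 hg _).1 ((hmemQ _).2 ⟨s, hs, rfl⟩))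
      rw [← map_inv, ← map_mul, ← map_mul, hinj.eq_iff] at e
      rwa [← e]
    · intro hg
      refine mem_normalizer_iff.2 fun n => ⟨fun hn => ?_, fun hn => ?_⟩
      · obtain ⟨c, hc, rfl⟩ := (hmemQ n).1 hn
        exact (hmemQ _).2 ⟨_, hg c hc, by simp [map_mul]⟩
      · have hmap : S₀.map (MulAut.conj g).toMonoidHom = S₀ := by
          refine eq_of_le_of_card_ge (fun y hy => ?_) ?_
          · obtain ⟨c, hc, rfl⟩ := hy
            exact hg c hc
          · rw [card_map_of_injective (MulAut.conj g).injective]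
        obtain ⟨c, hc, he⟩ := (hmemQ _).1 hn
        obtain ⟨d, hd, hde⟩ := hmap.ge (show c ∈ S₀ from hc)
        refine (hmemQ n).2 ⟨d, hd, ?_⟩
        rw [← hde] at he
        simp only [MulEquiv.coe_toMonoidHom, MulAut.conj_apply, map_mul, map_inv] at he
        simpa using he
  refine ⟨{
    J := J
    hJ := hJ2
    P := Q
    card_P := hQ8
    sq := fun s hs => by
      obtain ⟨c, hc, rfl⟩ := (hmemQ s).1 hs
      rw [← map_mul, D.sq_S c hc, map_one]
    hJP := (hmemQ J).2 ⟨D.z, D.z_S, hz⟩
    cent_P := fun x hx => by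
      have hxJ : x ∈ centralizer ({J} : Set G) := mem_centralizer_singleton_iff.2
        (mem_centralizer_iff.1 hx J ((hmemQ J).2 ⟨D.z, D.z_S, hz⟩)).symm
      obtain ⟨c, rfl⟩ := hsurj x hxJ
      refine (hmemQ _).2 ⟨c, D.self_cent c fun s hs => hinj ?_, rfl⟩
      rw [map_mul, map_mul]
      exact (mem_centralizer_iff.1 hx (emb s) ((hmemQ _).2 ⟨s, hs, rfl⟩)).symm
    M := M₀.map emb
    hMP := fun x hx => by
      obtain ⟨c, hc, rfl⟩ := hx
      exact (hmemQ _).2 ⟨c, D.M_le c hc, rfl⟩
    hMi := by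
      rw [relIndex, index_eq_two_iff]
      refine ⟨⟨J, (hmemQ J).2 ⟨D.z, D.z_S, hz⟩⟩, fun b => ?_⟩
      obtain ⟨c, hc, hb⟩ := (hmemQ b).1 b.2
      simp only [mem_subgroupOf, Subgroup.coe_mul, ← hb, ← hz, ← map_mul,
        Subgroup.mem_map_iff_mem hinj]
      have hcomm : c * D.z = D.z * c := hinj (by
        rw [map_mul, map_mul, hz, mem_centralizer_singleton_iff.1 (hmemC c)])
      rw [hcomm]
      rcases D.dich_M c hc with h | h
      · refine Or.inr ⟨h, fun h' => D.z_M ?_⟩
        show D.z ∈ M₀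
        simpa using mul_mem (show D.z * c ∈ M₀ from h') (inv_mem (show c ∈ M₀ from h))
      · refine Or.inl ⟨h, fun h' => D.z_M ?_⟩
        show D.z ∈ M₀
        simpa using mul_mem (show D.z * c ∈ M₀ from h) (inv_mem (show c ∈ M₀ from h'))
    hJM := by
      rw [← hz, Subgroup.mem_map_iff_mem hinj]
      exact D.z_M
    y := emb D.y
    y_comm := mem_centralizer_singleton_iff.1 (hmemC _)
    y_order := hyord
    y_norm := (hnorm _).2 D.y_norm
    y_fix := fun s hs h => by
      obtain ⟨c, hc, rfl⟩ := (hmemQ s).1 hs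
      rw [← map_mul, ← map_mul, hinj.eq_iff] at h
      exact (D.y_fix c hc h).imp (fun e => by rw [e, map_one]) (fun e => by rw [e, hz])
    card_NC := by
      rw [← D.card_N]
      refine Nat.card_congr (Equiv.ofBijective (fun x => ⟨e ⟨x.1, x.2.2⟩, (hnorm _).1 (by
        simpa [emb] using x.2.1)⟩) ⟨fun a b h => ?_, fun c => ?_⟩)
      · exact Subtype.ext (congrArg (Subtype.val : centralizer ({J} : Set G) → G) (e.injective (congrArg Subtype.val h)))
      · exact ⟨⟨emb c.1, (hnorm _).2 c.2, hmemC _⟩, Subtype.ext (by simp [emb])⟩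
    odd_trivial := fun L hL hPL hodd => by
      rw [eq_bot_iff]
      intro x hx
      obtain ⟨k, rfl⟩ := hsurj x (hL hx)
      have key : ∀ g ∈ L, ∀ c, emb c = g → c ^ 15 = 1 := by
        intro g hg c hc
        have h1 : orderOf g ∣ Nat.card L := by
          have := _root_.orderOf_dvd_natCard (⟨g, hg⟩ : L); rwa [orderOf_mk] at this
        have h2 : ¬ 2 ∣ orderOf g := fun h =>
          Nat.not_even_iff_odd.2 hodd (even_iff_two_dvd.2 (h.trans h1))
        rw [← hc, orderOf_injective emb hinj] at h2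
        have h30 : orderOf c ∣ 2 * 15 := orderOf_dvd_of_pow_eq_one (D.exp c)
        exact orderOf_dvd_iff_pow_eq_one.1
          (((Nat.prime_two.coprime_iff_not_dvd.2 h2).symm).dvd_of_dvd_mul_left h30)
      have hk := key _ hx k rfl
      have hs : ∀ s, D.inS s → emb (s * k * s⁻¹) ∈ L := fun s hs => by
        rw [map_mul, map_mul, map_inv]
        exact (mem_normalizer_iff.1 (hPL ((hmemQ _).2 ⟨s, hs, rfl⟩)) _).1 hx
      have two : ∀ c : K, c ^ 15 = 1 → c = 1 ∨ c * c ≠ 1 := fun c hc => by
        refine or_iff_not_imp_right.2 fun h => ?_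
        push Not at h
        rwa [show 15 = 2 * 7 + 1 from rfl, pow_succ, pow_mul, pow_two, h, one_pow, one_mul] at hc
      rw [mem_bot, D.odd k hk
        (fun s hsS => two _ (key _ (mul_mem (hs s hsS) (inv_mem hx)) _ (by rw [← map_inv, ← map_mul])))
        (fun s hsS t htS => two _ (key _
          (mul_mem (mul_mem (mul_mem (hs s hsS) (hs t htS)) (hs s hsS)) hx)
          _ (by rw [← map_mul, ← map_mul, ← map_mul]))), map_one]
    no_index_two := h2
    seven := by rw [Nat.card_congr e.toEquiv]; exact D.seven }, rfl⟩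

section Four

set_option synthInstance.maxSize 4096
set_option synthInstance.maxHeartbeats 400000
set_option maxHeartbeats 2000000

/-- The model for degree 4. -/
abbrev C4 := Multiplicative (ZMod 2) × ↥(alternatingGroup (Fin 4))

def x4 : ↥(alternatingGroup (Fin 4)) :=
  ⟨Equiv.swap 0 1 * Equiv.swap 1 2, Equiv.Perm.mem_alternatingGroup.2 (by decide +kernel)⟩

def model4 : Model C4 where
  z := (Multiplicative.ofAdd 1, 1)
  inS c := c.2 * c.2 = 1
  inM c := c.2 * c.2 = 1 ∧ c.1 = 1
  y := (1, x4)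
  one_S := by decide +kernel
  mul_S := by decide +kernel
  sq_S := by decide +kernel
  z_S := by decide +kernel
  card_S := by rw [Nat.card_eq_fintype_card]; decide +kernel
  mul_M := by decide +kernel
  one_M := by decide +kernel
  M_le := fun _ h => h.1
  z_M := by decide +kernel
  dich_M := by decide +kernel
  center := by decide +kernel
  self_cent := by decide +kernel
  y_three := by decide +kernel
  y_norm := by decide +kernel
  y_fix := by decide +kernel
  card_N := by rw [Nat.card_eq_fintype_card]; decide +kernel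
  odd := by decide +kernel
  exp := by decide +kernel
  seven := by rw [Nat.card_eq_fintype_card]; decide +kernel
  sylow := by rw [Nat.card_eq_fintype_card]; decide +kernel

theorem card_C4 : Nat.card C4 = 24 := by rw [Nat.card_eq_fintype_card]; decide +kernel

end Four

section Five

open Cfsg.Agent.Coprime.J1

set_option synthInstance.maxSize 4096
set_option synthInstance.maxHeartbeats 400000
set_option maxHeartbeats 2000000

def model5 : Model C₀ where
  z := t₀
  inS c := c.2 * c.2 = 1 ∧ (c.2 : Equiv.Perm (Fin 5)) 4 = 4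
  inM c := (c.2 * c.2 = 1 ∧ (c.2 : Equiv.Perm (Fin 5)) 4 = 4) ∧ c.1 = 1
  y := (1, x₃)
  one_S := by decide +kernel
  mul_S := fun _ _ => S₀.mul_mem
  sq_S := S₀_sq
  z_S := v₄_mem.2.2
  card_S := by rw [Nat.card_eq_fintype_card]; decide +kernel
  mul_M := fun a b ha hb => ⟨S₀.mul_mem ha.1 hb.1, by rw [Prod.fst_mul, ha.2, hb.2, one_mul]⟩
  one_M := by decide +kernel
  M_le := fun _ h => h.1
  z_M := by decide +kernel
  dich_M := by decide +kernel
  center := center_C₀
  self_cent := by decide +kernel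
  y_three := by decide +kernel
  y_norm := by decide +kernel
  y_fix := by decide +kernel
  card_N := by rw [Nat.card_eq_fintype_card]; decide +kernel
  odd := by decide +kernel
  exp := by decide +kernel
  seven := by rw [card_C₀]; norm_num
  sylow := by rw [card_C₀]; norm_num

/-- An element of `2 × A₅` is a product of two elements of square one. -/
theorem real_C₀ : ∀ c : C₀, ∃ a : C₀, a * a = 1 ∧ (a * c) * (a * c) = 1 := by decide +kernel

end Five

end Cfsg.Agent.H65.CentSmallAlt
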