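import Cfsg.Agent.H65.CentSmallAlt.Four
import Cfsg.Agent.H65.CentSmallAlt.Models
import Cfsg.Agent.Coprime.J1.Uniq.Iso

/-!
A 2-central involution with centralizer `2 × A_m`: `PΓL(2,8)` or `J₁`.
-/

set_option autoImplicit false
set_option linter.unusedSectionVars false
set_option linter.style.haveILetI false

namespace Cfsg.Agent.H65.CentSmallAlt

open Subgroup

open Cfsg.Agent.Coprime.J1 in
theorem five_case {G : Type*} [Group G] [Finite G] (D : Base G)
    (e : centralizer ({D.J} : Set G) ≃* C₀) (hns : ¬ Group.IsSolvable G) :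
    Cfsg.Spor.IsoJ1 G := by
  haveI : Fact (Nat.Prime 2) := ⟨Nat.prime_two⟩
  -- the centralizer is generated by involutions, so lies in `N`
  have hC : centralizer ({D.J} : Set G) ≤ D.N := by
    intro g hg
    obtain ⟨a, ha, hac⟩ := real_C₀ (e ⟨g, hg⟩)
    have hmem : ∀ c : C₀, c * c = 1 → ((e.symm c : centralizer ({D.J} : Set G)) : G) ∈ D.N := by
      intro c hc
      by_cases h1 : ((e.symm c : centralizer ({D.J} : Set G)) : G) = 1
      · rw [h1]; exact one_mem _
      · refine D.mem_N_of_involution ?_ h1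
        rw [← Subgroup.coe_mul, ← map_mul, hc, map_one, Subgroup.coe_one]
    have h := mul_mem (hmem a ha) (hmem _ hac)
    rwa [← Subgroup.coe_mul, ← map_mul, ← mul_assoc, ha, one_mul, MulEquiv.symm_apply_apply] at h
  have hH : D.N ⊓ D.H = D.H := by
    obtain ⟨r, hrN, hrH, hr⟩ := D.exists_seven hns
    refine eq_of_le_of_card_ge inf_le_right ?_
    have h24 : 24 ∣ Nat.card ↥(D.N ⊓ D.H) :=
      D.card_NC ▸ card_dvd_of_le (le_inf (inf_le_right.trans hC) inf_le_left)
    have h7 := _root_.orderOf_dvd_natCard (⟨r, hrN, hrH⟩ : ↥(D.N ⊓ D.H))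
    rw [← orderOf_coe] at h7
    simp only [hr] at h7
    rw [D.card_H]
    exact Nat.le_of_dvd Nat.card_pos
      (Nat.Coprime.mul_dvd_of_dvd_of_dvd (by norm_num : Nat.Coprime 24 7) h24 h7)
  have htop : D.N = ⊤ := by
    rw [← index_eq_one, D.index_N, hH, relIndex_self]
  haveI : IsSimpleGroup G := by
    haveI := D.isSimple hns
    have e' : G ≃* D.N := (Subgroup.topEquiv.symm).trans (MulEquiv.subgroupCongr htop.symm)
    exact MulEquiv.isSimpleGroup e'
  exact Uniq.isoJ1
    { t := D.J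
      ht := D.hJ
      e := e
      sylow_card := Uniq.sylow_card_of_central e (P := D.P) (fun x hx => D.comm hx D.hJP) }

theorem main {G : Type*} [Group G] [Finite G] (hns : ¬ Group.IsSolvable G)
    (h2 : ∀ N : Subgroup G, N.Normal → N.index ≠ 2)
    (J : G) (hJ : Cfsg.IsTwoCentralInvolution J) (m : ℕ) (T : Subgroup G)
    (hT : Nonempty (↥T ≃* ↥(alternatingGroup (Fin m))))
    (hd : Cfsg.IsInternalDirectProduct (Subgroup.zpowers J) T (Subgroup.centralizer ({J} : Set G))) :
    (m = 4 ∧ ∃ (F : Type) (_ : Field F) (_ : Fintype F), Fintype.card F = 8 ∧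
        Nonempty (G ≃* MulAut (Matrix.ProjectiveSpecialLinearGroup (Fin 2) F))) ∨
      (m = 5 ∧ Cfsg.Spor.IsoJ1 G) := by
  obtain ⟨φ⟩ := hT
  have hm := degree_cases h2 hJ φ hd
  obtain ⟨e⟩ := exists_equiv hJ.1 φ hd
  rcases hm with rfl | rfl
  · obtain ⟨D, rfl⟩ := model4.exists_base hJ h2 e
    refine Or.inl ⟨rfl, D.four_case ?_ hns⟩
    show Nat.card (centralizer ({D.J} : Set G)) = 24
    rw [Nat.card_congr e.toEquiv, card_C4]
  · obtain ⟨D, rfl⟩ := model5.exists_base hJ h2 e
    exact Or.inr ⟨rfl, five_case D e hns⟩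

end Cfsg.Agent.H65.CentSmallAlt
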