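import Cfsg.Agent.H65.CentSmallAlt.Order
import Cfsg.Agent.H56.OutPSL
import Cfsg.Agent.Linear.Order
import Cfsg.Agent.H79.DegGraphSmall.Orders
import Cfsg.Agent.S1011
import Mathlib.FieldTheory.Finite.GaloisField

/-!
The case `2 × A₄`: the group is `Aut PSL(2, 8)`.
-/

set_option autoImplicit false
set_option linter.unusedSectionVars false
set_option linter.style.haveILetI false

namespace Cfsg.Agent.H65.CentSmallAlt

open Subgroup

theorem card_mulAut_psl_eight_le {F : Type*} [Field F] [Fintype F] (hF : Fintype.card F = 8) :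
    Finite (MulAut (Matrix.ProjectiveSpecialLinearGroup (Fin 2) F)) ∧
      Nat.card (MulAut (Matrix.ProjectiveSpecialLinearGroup (Fin 2) F)) ≤ 1512 := by
  classical
  haveI : Fact (Nat.Prime 2) := ⟨Nat.prime_two⟩
  haveI : Finite (MulAut (Matrix.ProjectiveSpecialLinearGroup (Fin 2) F)) :=
    Finite.of_injective (fun φ => (φ : _ → _)) DFunLike.coe_injective
  refine ⟨inferInstance, ?_⟩
  have h2 : 2 ≤ 2 := le_rfl
  obtain ⟨e⟩ := H56.ringAut_equiv F (p := 2) (f := 3) (by norm_num) (by rw [hF]; norm_num)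
  haveI : Finite (RingAut F) := Finite.of_equiv _ e.toEquiv.symm
  have hA : Nat.card (RingAut F) = 3 := by
    rw [Nat.card_congr e.toEquiv]; simp [Nat.card_eq_fintype_card]
  have hker : (H56.fieldHom (F := F) h2).ker ≤ (H56.pglToAut (F := F) h2).range := by
    intro φ hφ
    obtain ⟨g, σ, h⟩ := H56.exists_decomp h2 φ
    rcases h with rfl | ⟨h3, -⟩
    · rw [MonoidHom.mem_ker, H56.fieldHom_semiAut] at hφ
      subst hφ
      exact ⟨g, rfl⟩
    · omega
  have hr : Nat.card (H56.pglToAut (F := F) h2).range * 7 = 3528 := by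
    have h := card_mul_index (H56.pglToAut (F := F) h2).ker
    rw [index_ker, H56.pglToAut_ker, Linear.card_center_GL, Nat.card_units,
      Nat.card_eq_fintype_card (α := F), hF, Matrix.card_GL_field, hF, Fin.prod_univ_two] at h
    norm_num at h
    rw [mul_comm]
    exact h
  have h1 := card_mul_index (H56.fieldHom (F := F) h2).ker
  rw [index_ker] at h1
  have h3 : Nat.card (H56.fieldHom (F := F) h2).range ≤ 3 := hA ▸ card_le_card_group _
  have h4 := card_le_of_le hker
  rw [← h1]
  calc Nat.card (H56.fieldHom (F := F) h2).ker * Nat.card (H56.fieldHom (F := F) h2).range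
      ≤ 504 * 3 := Nat.mul_le_mul (by omega) h3
    _ = 1512 := rfl

/-- Conjugation on a normal subgroup with trivial centralizer is faithful. -/
theorem conjNormal_injective {G : Type*} [Group G] (N : Subgroup G) [N.Normal]
    (h : centralizer (N : Set G) = ⊥) : Function.Injective (MulAut.conjNormal (H := N)) := by
  rw [← MonoidHom.ker_eq_bot_iff, eq_bot_iff, ← h]
  intro x hx
  refine mem_centralizer_iff.2 fun n hn => ?_
  have e := congrArg Subtype.val (DFunLike.congr_fun (MonoidHom.mem_ker.1 hx) ⟨n, hn⟩)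
  rw [MulAut.conjNormal_apply] at e
  exact (mul_inv_eq_iff_eq_mul.1 e).symm

namespace Base

variable {G : Type*} [Group G] [Finite G] (D : Base G)

theorem four_case (hC : D.Small) (hns : ¬ Group.IsSolvable G) :
    ∃ (F : Type) (_ : Field F) (_ : Fintype F), Fintype.card F = 8 ∧
      Nonempty (G ≃* MulAut (Matrix.ProjectiveSpecialLinearGroup (Fin 2) F)) := by
  haveI := D.isSimple hns
  have hna : ¬ IsMulCommutative D.N := fun h => by
    obtain ⟨a, b, hab⟩ := D.N_not_comm hns
    exact hab (h.is_comm.comm a b)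
  have hG : Nat.card G = 1512 := card_eq hC hns
  have hd : Nat.card D.N ∣ 1512 := hG ▸ card_subgroup_dvd_card _
  have hlist := H79.DegGraphSmall.simple_order_cases hna
    (lt_of_le_of_lt (Nat.le_of_dvd (by norm_num) hd) (by norm_num))
  have hN : Nat.card D.N = 504 := by
    obtain ⟨r, hrN, hrH, hr⟩ := D.exists_seven hns
    have h56 : 56 ∣ Nat.card ↥(D.N ⊓ D.H) := by
      have h8 : 8 ∣ Nat.card ↥(D.N ⊓ D.H) := D.card_P ▸ card_dvd_of_le (le_inf D.P_le_N D.P_le_H)
      have h7 := _root_.orderOf_dvd_natCard (⟨r, hrN, hrH⟩ : ↥(D.N ⊓ D.H))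
      rw [← orderOf_coe] at h7
      simp only [hr] at h7
      exact Nat.Coprime.mul_dvd_of_dvd_of_dvd (by norm_num : Nat.Coprime 8 7) h8 h7
    have hidx : D.N.index ≤ 3 := by
      rw [D.index_N, relIndex]
      have h := card_mul_index ((D.N ⊓ D.H).subgroupOf D.H)
      rw [Nat.card_congr (subgroupOfEquivOfLe (inf_le_right : D.N ⊓ D.H ≤ D.H)).toEquiv,
        D.card_H] at h
      have h56' := Nat.le_of_dvd Nat.card_pos h56
      nlinarith
    have h := card_mul_index D.N
    rw [hG] at h
    have h504 : 504 ≤ Nat.card D.N := by nlinarith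
    simp only [Finset.mem_insert, Finset.mem_singleton] at hlist
    rcases hlist with e | e | e | e | e | e | e | e | e | e | e <;> rw [e] at hd h504 <;>
      first | exact e | omega | (norm_num at hd)
  haveI : Fact (Nat.Prime 2) := ⟨Nat.prime_two⟩
  letI : Fintype (GaloisField 2 3) := Fintype.ofFinite _
  have hF : Fintype.card (GaloisField 2 3) = 8 := by
    rw [← Nat.card_eq_fintype_card, GaloisField.card 2 3 (by norm_num)]; norm_num
  obtain ⟨e⟩ := Cfsg.Agent.S1011.result (G := D.N) hN hF
  obtain ⟨hfin, hle⟩ := card_mulAut_psl_eight_le hF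
  let φ : G →* MulAut (Matrix.ProjectiveSpecialLinearGroup (Fin 2) (GaloisField 2 3)) :=
    (MulAut.congr e).toMonoidHom.comp MulAut.conjNormal
  have hφ : Function.Injective φ :=
    (MulAut.congr e).injective.comp (conjNormal_injective D.N (D.centralizer_N hns))
  refine ⟨GaloisField 2 3, inferInstance, inferInstance, hF,
    ⟨MulEquiv.ofBijective φ (hφ.bijective_of_nat_card_le (hle.trans hG.ge))⟩⟩

end Base

end Cfsg.Agent.H65.CentSmallAlt
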