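import Cfsg.Agent.H65.CentSmallAlt.Seven

/-!
The order of a nonsolvable group with centralizer `2 × A₄` of a 2-central involution: 1512.
-/

set_option autoImplicit false
set_option linter.unusedSectionVars false
set_option linter.style.haveILetI false

namespace Cfsg.Agent.H65.CentSmallAlt.Base

open Subgroup

variable {G : Type*} [Group G] [Finite G] {D : Base G}

variable (D) in
theorem card_eq_centralizer_mul :
    Nat.card (centralizer ({D.J} : Set G)) * {u : G | u * u = 1 ∧ u ≠ 1}.ncard = Nat.card G := by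
  classical
  haveI : Fintype G := Fintype.ofFinite G
  have himage : Finset.univ.image (fun g : G => g * D.J * g⁻¹) =
      ({u : G | u * u = 1 ∧ u ≠ 1} : Set G).toFinset := by
    ext u
    simp only [Finset.mem_image, Finset.mem_univ, true_and, Set.mem_toFinset, Set.mem_ofPred_eq]
    constructor
    · rintro ⟨g, rfl⟩
      exact ⟨conj_invol (D.sq _ D.hJP), fun h => D.J_ne_one (conj_eq_one_iff.1 h)⟩
    · rintro ⟨h1, h2⟩
      exact D.exists_conj_of_involution h1 h2
  have hsum := Finset.card_eq_sum_card_image (fun g : G => g * D.J * g⁻¹) Finset.univ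
  have hfib : ∀ u ∈ Finset.univ.image (fun g : G => g * D.J * g⁻¹),
      (Finset.univ.filter fun g : G => g * D.J * g⁻¹ = u).card =
        Nat.card (centralizer ({D.J} : Set G)) := by
    intro u hu
    obtain ⟨g, -, rfl⟩ := Finset.mem_image.1 hu
    rw [← Fintype.card_subtype, ← Nat.card_eq_fintype_card]
    exact Nat.card_congr
      { toFun := fun x => ⟨g⁻¹ * x.1, mem_centralizer_singleton_iff.2 (by
          calc g⁻¹ * x.1 * D.J = g⁻¹ * (x.1 * D.J * x.1⁻¹) * x.1 := by group
            _ = D.J * (g⁻¹ * x.1) := by rw [x.2]; group)⟩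
        invFun := fun c => ⟨g * c.1, by
          calc g * c.1 * D.J * (g * c.1)⁻¹ = g * (c.1 * D.J * c.1⁻¹) * g⁻¹ := by group
            _ = g * D.J * g⁻¹ := by
              rw [mem_centralizer_singleton_iff.1 c.2, mul_inv_cancel_right]⟩
        left_inv := fun x => Subtype.ext (by simp)
        right_inv := fun c => Subtype.ext (by simp) }
  rw [Finset.sum_congr rfl hfib, Finset.sum_const, smul_eq_mul, Finset.card_univ, himage,
    ← Set.ncard_eq_toFinset_card', ← Nat.card_eq_fintype_card] at hsum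
  rw [hsum, mul_comm]

variable (D) in
/-- The involutions outside the normalizer. -/
def outer : Set G := {u | u * u = 1 ∧ u ∉ D.H}

theorem ncard_all : {u : G | u * u = 1 ∧ u ≠ 1}.ncard = D.outer.ncard + 7 := by
  have hsub : ((D.P : Subgroup G) : Set G) \ {1} ⊆ {u : G | u * u = 1 ∧ u ≠ 1} :=
    fun u hu => ⟨D.sq u hu.1, hu.2⟩
  have hdiff : {u : G | u * u = 1 ∧ u ≠ 1} \ (((D.P : Subgroup G) : Set G) \ {1}) = D.outer := by
    ext u
    constructor
    · rintro ⟨⟨h1, h2⟩, h3⟩
      exact ⟨h1, fun h => h3 ⟨mem_P_of_involution h1 h, h2⟩⟩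
    · rintro ⟨h1, h2⟩
      exact ⟨⟨h1, fun h => h2 (h ▸ one_mem _)⟩, fun h3 => h2 (D.P_le_H h3.1)⟩
  rw [← hdiff, ← Set.ncard_sdiff_add_ncard_of_subset hsub (Set.toFinite _),
    Set.ncard_sdiff_singleton_of_mem (s := ((D.P : Subgroup G) : Set G)) (one_mem _),
    ← Nat.card_coe_set_eq ((D.P : Subgroup G) : Set G)]
  rw [show Nat.card ((D.P : Subgroup G) : Set G) = 8 from D.card_P]

theorem ncard_outer (hC : D.Small) : D.outer.ncard + 7 = 7 * D.H.index := by
  have h := D.card_eq_centralizer_mul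
  rw [show Nat.card (centralizer ({D.J} : Set G)) = 24 from hC, ncard_all (D := D),
    ← card_mul_index D.H, D.card_H] at h
  omega

/-- Every outer involution inverts exactly one subgroup of order seven of the normalizer. -/
theorem exists_seven_inverted (hC : D.Small) {t : G} (ht : t ∈ D.outer) :
    ∃ R : Subgroup G, (Nat.card R = 7 ∧ R ≤ D.H ∧ t ∈ inverters R) ∧
      ∀ R' : Subgroup G, Nat.card R' = 7 → R' ≤ D.H → t ∈ inverters R' → R' = R := by
  classical
  haveI : Fintype G := Fintype.ofFinite G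
  let q : G → G ⧸ D.H := QuotientGroup.mk
  let O : Finset G := D.outer.toFinset
  have hmemO : ∀ u, u ∈ O ↔ (u * u = 1 ∧ u ∉ D.H) := fun u => Set.mem_toFinset
  have hfib : ∀ t' ∈ O, (O.filter fun u => q u = q t').card = (D.inv t').ncard := by
    intro t' ht'
    obtain ⟨ht2, htH⟩ := (hmemO t').1 ht'
    have hti : t'⁻¹ = t' := inv_eq_of_mul_eq_one_left ht2
    rw [← Set.ncard_coe_finset, ← Set.ncard_image_of_injective (D.inv t') (mul_right_injective t')]
    refine congrArg Set.ncard (Set.ext fun u => ?_)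
    simp only [Finset.coe_filter, hmemO, Set.mem_ofPred_eq, Set.mem_image]
    constructor
    · rintro ⟨⟨hu2, -⟩, hu⟩
      refine ⟨t' * u, ⟨?_, ?_⟩, by rw [← mul_assoc, ht2, one_mul]⟩
      · have := QuotientGroup.eq.1 hu.symm
        rwa [hti] at this
      · rw [← mul_assoc t', ht2, one_mul, mul_inv_rev, hti, inv_eq_of_mul_eq_one_left hu2]
    · rintro ⟨d, ⟨hd, hinv⟩, rfl⟩
      refine ⟨⟨?_, fun h => htH ?_⟩, (QuotientGroup.eq.2 ?_).symm⟩
      · calc t' * d * (t' * d) = t' * d * t' * d := by group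
          _ = 1 := by rw [hinv, inv_mul_cancel]
      · have := mul_mem h (inv_mem hd)
        rwa [mul_inv_cancel_right] at this
      · rwa [inv_mul_cancel_left]
  have hle : ∀ t' ∈ O, (D.inv t').ncard ≤ 7 := fun t' ht' => by
    obtain ⟨ht2, htH⟩ := (hmemO t').1 ht'
    rcases inv_cases hC ht2 htH with h | ⟨R, hR, -, he, -⟩
    · exact h.le
    · rw [he, ← Nat.card_coe_set_eq]; exact hR.le
  have htO : t ∈ O := (hmemO t).2 ht
  rcases inv_cases hC ht.1 ht.2 with hlt | ⟨R, hR, hRH, he, hu⟩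
  · exfalso
    have hsum := Finset.card_eq_sum_card_image q O
    have h1 : ∑ c ∈ O.image q, (O.filter fun u => q u = c).card <
        ∑ _c ∈ O.image q, 7 := by
      refine Finset.sum_lt_sum (fun c hc => ?_) ⟨q t, Finset.mem_image_of_mem _ htO, ?_⟩
      · obtain ⟨t', ht', rfl⟩ := Finset.mem_image.1 hc
        rw [hfib t' ht']; exact hle t' ht'
      · rw [hfib t htO]; exact hlt
    rw [← hsum, Finset.sum_const, smul_eq_mul] at h1
    have h2 : (O.image q).card + 1 ≤ D.H.index := by
      have hn : (q 1) ∉ O.image q := fun h => by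
        obtain ⟨u, hu, e⟩ := Finset.mem_image.1 h
        have := QuotientGroup.eq.1 e
        rw [mul_one] at this
        exact ((hmemO u).1 hu).2 (by simpa using inv_mem this)
      have h3 := Finset.card_le_univ (insert (q 1) (O.image q))
      rw [Finset.card_insert_of_notMem hn, ← Nat.card_eq_fintype_card, ← index_eq_card] at h3
      exact h3
    have h3 := ncard_outer (D := D) hC
    rw [Set.ncard_eq_toFinset_card'] at h3
    change O.card + 7 = _ at h3
    omega
  · refine ⟨R, ⟨hR, hRH, ht.1, fun h => ht.2 (h ▸ one_mem _), fun x hx => ?_⟩, ?_⟩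
    · exact (he.symm.subset hx : x ∈ D.inv t).2
    · exact fun R' hR' hRH' htR' => hu R' hR' hRH' fun x hx => ⟨hRH' hx, htR'.2.2 x hx⟩

theorem inverters_subset_outer {R : Subgroup G} (hR : Nat.card R = 7) (hRH : R ≤ D.H) :
    inverters R ⊆ D.outer := by
  intro u hu
  refine ⟨hu.1, fun huH => hu.2.1 (D.commutator_seven hR ?_ hu.1)⟩
  refine mem_centralizer_iff.2 fun x hx => ?_
  have huP := mem_P_of_involution hu.1 huH
  have hui : u⁻¹ = u := inv_eq_of_mul_eq_one_left hu.1
  have e1 : x * u * x⁻¹ * u⁻¹ ∈ (D.P : Subgroup G) :=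
    mul_mem (D.conj_mem_P (hRH hx) huP) (inv_mem huP)
  have e2 : x * u * x⁻¹ * u⁻¹ = x * x := by
    rw [hui]
    calc x * u * x⁻¹ * u = x * (u * x⁻¹ * u) := by group
      _ = x * x := by rw [hu.2.2 x⁻¹ (inv_mem hx), inv_inv]
  have hinf : R ⊓ (D.P : Subgroup G) = ⊥ :=
    inf_eq_bot_of_coprime (by rw [hR, D.card_P]; norm_num)
  have h := mem_inf.2 ⟨(e2 ▸ mul_mem hx hx : x * u * x⁻¹ * u⁻¹ ∈ R), e1⟩
  rw [hinf, mem_bot, mul_inv_eq_one] at h
  exact mul_inv_eq_iff_eq_mul.1 h

/-- The order of the group. -/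
theorem card_eq (hC : D.Small) (hns : ¬ Group.IsSolvable G) : Nat.card G = 1512 := by
  classical
  haveI : Fintype G := Fintype.ofFinite G
  haveI : Fact (Nat.Prime 7) := ⟨by norm_num⟩
  haveI : Fintype (Subgroup G) := Fintype.ofFinite _
  -- there is an outer involution
  obtain ⟨t, ht⟩ : D.outer.Nonempty := by
    rw [Set.nonempty_iff_ne_empty]
    intro he
    have h := ncard_outer (D := D) hC
    rw [he, Set.ncard_empty] at h
    have hH : D.H = ⊤ := index_eq_one.1 (by omega)
    refine hns ?_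
    haveI : (D.P : Subgroup G).Normal := normalizer_eq_top_iff.1 hH
    haveI : Group.IsSolvable ↥(D.P : Subgroup G) := by
      haveI : Fact (Nat.Prime 2) := ⟨Nat.prime_two⟩
      haveI := D.P.isPGroup'.isNilpotent
      infer_instance
    haveI : Group.IsSolvable (G ⧸ (D.P : Subgroup G)) := by
      refine S0205.result ?_
      have hG : Nat.card G = 168 := by rw [← D.card_H, hH, card_top]
      have := (D.P : Subgroup G).card_eq_card_quotient_mul_card_subgroup
      rw [hG, D.card_P] at this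
      rw [show Nat.card (G ⧸ (D.P : Subgroup G)) = 21 by omega]
      decide
    exact Group.isSolvable_of_ker_le_range (D.P : Subgroup G).subtype
      (QuotientGroup.mk' (D.P : Subgroup G)) (by simp)
  obtain ⟨R₀, ⟨hR₀, hR₀H, htR₀⟩, -⟩ := exists_seven_inverted hC ht
  obtain ⟨hc, hdvd⟩ := inverters_data hC hR₀ hR₀H htR₀
  set c := Nat.card (centralizer (R₀ : Set G)) with hcdef
  -- the subgroups of order seven
  let 𝓡 : Finset (Subgroup G) := Finset.univ.filter fun R => Nat.card R = 7 ∧ R ≤ D.H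
  have hmem : ∀ R, R ∈ 𝓡 ↔ Nat.card R = 7 ∧ R ≤ D.H := fun R => by simp [𝓡]
  have hsyl : ∀ R : Subgroup G, Nat.card R = 7 → R ≤ D.H →
      ∃ Q : Sylow 7 D.H, (Q : Subgroup D.H) = R.subgroupOf D.H := fun R hR hRH => by
    refine ⟨Sylow.ofCard (R.subgroupOf D.H) ?_, rfl⟩
    rw [Nat.card_congr (subgroupOfEquivOfLe hRH).toEquiv, hR, D.card_H,
      show (168 : ℕ) = 7 ^ 1 * 24 by norm_num,
      Nat.factorization_mul (by norm_num) (by norm_num), Finsupp.add_apply,
      Nat.Prime.factorization_pow (by norm_num), Finsupp.single_eq_same,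
      Nat.factorization_eq_zero_of_not_dvd (by norm_num : ¬ 7 ∣ 24), pow_one]
  have hcard7 : ∀ Q : Sylow 7 D.H, Nat.card ((Q : Subgroup D.H).map D.H.subtype) = 7 := by
    intro Q
    obtain ⟨Q₀, hQ₀⟩ := hsyl R₀ hR₀ hR₀H
    rw [card_map_of_injective D.H.subtype_injective, Nat.card_congr (Sylow.equiv Q Q₀).toEquiv,
      hQ₀, Nat.card_congr (subgroupOfEquivOfLe hR₀H).toEquiv, hR₀]
  have h8 : 𝓡.card = 8 := by
    rw [← (card_normalizer_seven hR₀ hR₀H).1, Nat.card_eq_fintype_card]
    refine Finset.card_bij' (t := Finset.univ)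
      (fun R hR => (hsyl R ((hmem R).1 hR).1 ((hmem R).1 hR).2).choose)
      (fun Q _ => (Q : Subgroup D.H).map D.H.subtype) (fun _ _ => Finset.mem_univ _)
      (fun Q _ => (hmem _).2 ⟨hcard7 Q, map_subtype_le _⟩) ?_ ?_
    · intro R hR
      rw [(hsyl R ((hmem R).1 hR).1 ((hmem R).1 hR).2).choose_spec,
        map_subgroupOf_eq_of_le ((hmem R).1 hR).2]
    · intro Q hQ
      refine Sylow.ext ?_
      rw [(hsyl ((Q : Subgroup D.H).map D.H.subtype) (hcard7 Q) (map_subtype_le _)).choose_spec]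
      exact comap_map_eq_self_of_injective D.H.subtype_injective _
  have hconj : ∀ R ∈ 𝓡, (inverters R).toFinset.card = c := by
    intro R hR
    rw [← Set.ncard_eq_toFinset_card', ← hc]
    obtain ⟨Q, hQ⟩ := hsyl R ((hmem R).1 hR).1 ((hmem R).1 hR).2
    obtain ⟨Q₀, hQ₀⟩ := hsyl R₀ hR₀ hR₀H
    obtain ⟨h, hh⟩ := MulAction.exists_smul_eq D.H Q₀ Q
    have hmap : R = R₀.map (MulAut.conj (h : G)).toMonoidHom := by
      have e := congrArg (fun S : Sylow 7 D.H => (S : Subgroup D.H).map D.H.subtype) hh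
      simp only [Sylow.coe_subgroup_smul, hQ, hQ₀, pointwise_smul_def,
        map_subgroupOf_eq_of_le ((hmem R).1 hR).2, map_map] at e
      rw [← e]
      conv_rhs => rw [← map_subgroupOf_eq_of_le hR₀H]
      ext x
      constructor
      · rintro ⟨_, ⟨z, hz, rfl⟩, rfl⟩
        exact ⟨_, ⟨z, hz, rfl⟩, rfl⟩
      · rintro ⟨_, ⟨z, hz, rfl⟩, rfl⟩
        exact ⟨_, ⟨z, hz, rfl⟩, rfl⟩
    rw [hmap, ncard_inverters_conj]
  have hO : D.outer.toFinset = 𝓡.biUnion fun R => (inverters R).toFinset := by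
    ext u
    simp only [Set.mem_toFinset, Finset.mem_biUnion, hmem]
    constructor
    · intro hu
      obtain ⟨R, ⟨h1, h2, h3⟩, -⟩ := exists_seven_inverted hC hu
      exact ⟨R, ⟨h1, h2⟩, h3⟩
    · rintro ⟨R, ⟨h1, h2⟩, h3⟩
      exact inverters_subset_outer h1 h2 h3
  have hdisj : (𝓡 : Set (Subgroup G)).PairwiseDisjoint fun R => (inverters R).toFinset := by
    intro R hR R' hR' hne
    refine Finset.disjoint_left.2 fun u hu hu' => hne ?_
    rw [Set.mem_toFinset] at hu hu'
    obtain ⟨h1, h2⟩ := (hmem R).1 hR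
    obtain ⟨h1', h2'⟩ := (hmem R').1 hR'
    obtain ⟨R'', -, huniq⟩ := exists_seven_inverted hC (inverters_subset_outer h1 h2 hu)
    rw [huniq R h1 h2 hu, huniq R' h1' h2' hu']
  have hcount := ncard_outer (D := D) hC
  rw [Set.ncard_eq_toFinset_card', hO, Finset.card_biUnion hdisj, Finset.sum_congr rfl hconj,
    Finset.sum_const, h8, smul_eq_mul] at hcount
  have hG := card_mul_index D.H
  rw [D.card_H] at hG
  -- arithmetic
  have h7c : 7 ∣ c := hR₀ ▸ card_dvd_of_le (le_centralizer_iff_isMulCommutative.mpr (by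
    haveI : IsCyclic R₀ := isCyclic_of_prime_card hR₀
    infer_instance))
  have hodd : ¬ 2 ∣ c := fun h => by
    haveI : Fact (Nat.Prime 2) := ⟨Nat.prime_two⟩
    obtain ⟨u, hu⟩ := exists_prime_orderOf_dvd_card' (G := centralizer (R₀ : Set G)) 2 h
    have hu' : orderOf (u : G) = 2 := by rwa [orderOf_coe]
    have h1 := D.commutator_seven hR₀ u.2 (by rw [← pow_two, ← hu', pow_orderOf_eq_one])
    rw [h1, orderOf_one] at hu'
    omega
  have hc28 : c ∣ 28 := by
    have h1 : 6 * c ∣ 24 * (8 * c + 7) := by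
      refine hdvd.trans (dvd_of_eq ?_)
      omega
    have h2 : c ∣ 4 * (8 * c + 7) :=
      Nat.dvd_of_mul_dvd_mul_left (by norm_num : 0 < 6) (h1.trans (dvd_of_eq (by ring)))
    have h3 : c ∣ 4 * (8 * c) := Dvd.dvd.mul_left (dvd_mul_left c 8) 4
    rw [mul_add] at h2
    exact (Nat.dvd_add_right h3).1 h2
  have hc7 : c = 7 := by
    have : c ∈ Nat.divisors 28 := Nat.mem_divisors.2 ⟨hc28, by norm_num⟩
    rw [show Nat.divisors 28 = {1, 2, 4, 7, 14, 28} by decide +kernel] at this
    simp only [Finset.mem_insert, Finset.mem_singleton] at this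
    omega
  omega

end Cfsg.Agent.H65.CentSmallAlt.Base
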