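import Cfsg.Prelude.Def_TwoFusion
import Cfsg.Prelude.Def_SporadicB
import Cfsg.Agent.H65.CentSmallAlt.Alt
import Cfsg.Agent.H25.InvolutionTransfer
import Mathlib.GroupTheory.SpecificGroups.Cyclic
import Mathlib.GroupTheory.NoncommCoprod

/-!
A 2-central involution with centralizer `2 × A_m` and no normal subgroup of index 2: `m` is 4 or 5.
-/

set_option autoImplicit false

namespace Cfsg.Agent.H65.CentSmallAlt

open Subgroup

variable {G : Type*} [Group G] {J : G} {T : Subgroup G}

theorem mem_zpowers_two (hJ : orderOf J = 2) {a : G} (ha : a ∈ zpowers J) : a = 1 ∨ a = J := by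
  obtain ⟨k, rfl⟩ := ha
  show J ^ k = 1 ∨ J ^ k = J
  rw [← zpow_mod_orderOf, hJ]
  rcases Int.emod_two_eq k with h | h <;> simp [h]

theorem J_not_mem (hJ : orderOf J = 2)
    (hd : IsInternalDirectProduct (zpowers J) T (centralizer ({J} : Set G))) : J ∉ T := by
  intro h
  have : J ∈ zpowers J ⊓ T := ⟨mem_zpowers J, h⟩
  rw [hd.2.2.2.1, mem_bot] at this
  rw [this, orderOf_one] at hJ
  omega

theorem decomp (hJ : orderOf J = 2)
    (hd : IsInternalDirectProduct (zpowers J) T (centralizer ({J} : Set G))) {x : G}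
    (hx : x ∈ centralizer ({J} : Set G)) : x ∈ T ∨ J * x ∈ T := by
  have hnorm : zpowers J ≤ normalizer (T : Set G) := fun a ha => mem_normalizer_iff.2 fun t => by
    constructor
    · intro ht
      rwa [hd.2.2.1 a ha t ht, mul_inv_cancel_right]
    · intro ht
      have h : t = a⁻¹ * (a * t * a⁻¹) * a := by group
      rw [h, hd.2.2.1 a⁻¹ (inv_mem ha) _ ht, inv_mul_cancel_right]
      exact ht
  rw [← hd.2.2.2.2, ← SetLike.mem_coe,
    coe_mul_of_left_le_normalizer_right _ _ hnorm] at hx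
  obtain ⟨a, ha, t, ht, rfl⟩ := hx
  rcases mem_zpowers_two hJ ha with rfl | rfl
  · exact Or.inl (by simpa using ht)
  · refine Or.inr ?_
    rwa [← mul_assoc, show a * a = 1 from by rw [← sq, ← hJ, pow_orderOf_eq_one], one_mul]

theorem commutator_centralizer_le (hJ : orderOf J = 2)
    (hd : IsInternalDirectProduct (zpowers J) T (centralizer ({J} : Set G))) :
    ⁅centralizer ({J} : Set G), centralizer ({J} : Set G)⁆ ≤ T := by
  rw [commutator_le]
  intro g hg h hh
  have hcomm : ∀ k ∈ centralizer ({J} : Set G), Commute J k := fun k hk =>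
    (mem_centralizer_singleton_iff.1 hk).symm
  have key : ∀ g h : G, g ∈ centralizer ({J} : Set G) → h ∈ centralizer ({J} : Set G) →
      ∃ g' ∈ T, ∃ h' ∈ T, g * h * g⁻¹ * h⁻¹ = g' * h' * g'⁻¹ * h'⁻¹ := by
    intro g h hg hh
    have hJinv : J⁻¹ = J := inv_eq_of_mul_eq_one_left (by rw [← sq, ← hJ, pow_orderOf_eq_one])
    have h1 : J * h = h * J := hcomm h hh
    have h2 : J * g = g * J := hcomm g hg
    have e1 : g * h * g⁻¹ * h⁻¹ = (J * g) * h * (J * g)⁻¹ * h⁻¹ := by
      have : (J * g) * h * (J * g)⁻¹ * h⁻¹ = J * (g * h * g⁻¹) * J⁻¹ * h⁻¹ := by group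
      rw [this, (hcomm _ (mul_mem (mul_mem hg hh) (inv_mem hg))).eq, mul_inv_cancel_right]
    have e2 : ∀ g, g ∈ centralizer ({J} : Set G) →
        g * h * g⁻¹ * h⁻¹ = g * (J * h) * g⁻¹ * (J * h)⁻¹ := by
      intro g hg
      have : g * (J * h) * g⁻¹ * (J * h)⁻¹ = (g * J) * h * g⁻¹ * h⁻¹ * J⁻¹ := by group
      rw [this, ← (hcomm g hg).eq,
        show J * g * h * g⁻¹ * h⁻¹ = J * (g * h * g⁻¹ * h⁻¹) by group,
        (hcomm _ (mul_mem (mul_mem (mul_mem hg hh) (inv_mem hg)) (inv_mem hh))).eq,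
        mul_inv_cancel_right]
    have hJc : J ∈ centralizer ({J} : Set G) := hd.1 (mem_zpowers J)
    rcases decomp hJ hd hg with hgT | hgT <;> rcases decomp hJ hd hh with hhT | hhT
    · exact ⟨g, hgT, h, hhT, rfl⟩
    · exact ⟨g, hgT, _, hhT, e2 g hg⟩
    · exact ⟨_, hgT, h, hhT, e1⟩
    · exact ⟨_, hgT, _, hhT, e1.trans (e2 _ (mul_mem hJc hg))⟩
  obtain ⟨g', hg', h', hh', e⟩ := key g h hg hh
  rw [commutatorElement_def, e]
  exact mul_mem (mul_mem (mul_mem hg' hh') (inv_mem hg')) (inv_mem hh')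

theorem relIndex_inf (hJ : orderOf J = 2)
    (hd : IsInternalDirectProduct (zpowers J) T (centralizer ({J} : Set G))) {P : Subgroup G}
    (hP : P ≤ centralizer ({J} : Set G)) (hJP : J ∈ P) : (P ⊓ T).relIndex P = 2 := by
  rw [relIndex, index_eq_two_iff]
  refine ⟨⟨J, hJP⟩, fun b => ?_⟩
  simp only [mem_subgroupOf, Subgroup.mem_inf, Subgroup.coe_mul]
  have hc : (b : G) * J = J * b := mem_centralizer_singleton_iff.1 (hP b.2)
  rw [hc]
  rcases decomp hJ hd (hP b.2) with h | h
  · refine Or.inr ⟨⟨b.2, h⟩, fun h' => J_not_mem hJ hd ?_⟩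
    simpa using mul_mem h'.2 (inv_mem h)
  · refine Or.inl ⟨⟨mul_mem hJP b.2, h⟩, fun h' => J_not_mem hJ hd ?_⟩
    simpa using mul_mem h (inv_mem h'.2)

theorem exists_conj [Finite G] (h2 : ∀ N : Subgroup G, N.Normal → N.index ≠ 2)
    (hJ : IsTwoCentralInvolution J)
    (hd : IsInternalDirectProduct (zpowers J) T (centralizer ({J} : Set G))) :
    ∃ g : G, g * J * g⁻¹ ∈ T := by
  obtain ⟨hJ2, P, hJP, hPc⟩ := hJ
  have hP : (P : Subgroup G) ≤ centralizer ({J} : Set G) := fun x hx =>
    mem_centralizer_singleton_iff.2 (hPc x hx)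
  rcases H25.thompson_transfer P ((P : Subgroup G) ⊓ T) inf_le_left
    (relIndex_inf hJ2 hd hP hJP) J hJ2 hJP (fun h => J_not_mem hJ2 hd h.2) with
    ⟨M, hM, hMi, -⟩ | ⟨g, hg⟩
  · exact absurd hMi (h2 M hM)
  · exact ⟨g, hg.2⟩

theorem degree_cases [Finite G] (h2 : ∀ N : Subgroup G, N.Normal → N.index ≠ 2)
    (hJ : IsTwoCentralInvolution J) {m : ℕ} (φ : T ≃* alternatingGroup (Fin m))
    (hd : IsInternalDirectProduct (zpowers J) T (centralizer ({J} : Set G))) :
    m = 4 ∨ m = 5 := by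
  obtain ⟨g, hg⟩ := exists_conj h2 hJ hd
  have hJ2 := hJ.1
  set u : alternatingGroup (Fin m) := φ ⟨g * J * g⁻¹, hg⟩ with hu
  have hu2 : orderOf u = 2 := by
    rw [hu, MulEquiv.orderOf_eq, orderOf_mk,
      show g * J * g⁻¹ = MulAut.conj g J from rfl, MulEquiv.orderOf_eq, hJ2]
  by_contra hm
  push Not at hm
  rcases Nat.lt_or_ge m 6 with h6 | h6
  · have hm3 : m ≤ 3 := by omega
    have hcard : Nat.card (alternatingGroup (Fin m)) ∣ 3 := by
      interval_cases m <;> rw [Nat.card_eq_fintype_card] <;> decide +kernel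
    have := (orderOf_dvd_natCard u).trans hcard
    rw [hu2] at this
    norm_num at this
  · have huu : u * u = 1 := by rw [← sq, ← hu2, pow_orderOf_eq_one]
    have hmem := mem_derived_centralizer (x := u) (by simpa using h6) huu
    let ι : alternatingGroup (Fin m) →* G :=
      (MulAut.conj g⁻¹).toMonoidHom.comp (T.subtype.comp φ.symm.toMonoidHom)
    have hι : ι u = J := by
      show g⁻¹ * ((φ.symm u : T) : G) * g⁻¹⁻¹ = J
      rw [hu, MulEquiv.symm_apply_apply]
      simp [mul_assoc]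
    refine J_not_mem hJ2 hd ?_
    rw [← hι]
    refine (le_trans ?_ (commutator_centralizer_le hJ2 hd)) (mem_map_of_mem ι hmem)
    rw [map_commutator]
    have hle : (centralizer ({u} : Set (alternatingGroup (Fin m)))).map ι ≤
        centralizer ({J} : Set G) := by
      rintro _ ⟨a, ha, rfl⟩
      rw [mem_centralizer_singleton_iff, ← hι, ← map_mul, ← map_mul,
        mem_centralizer_singleton_iff.1 ha]
    exact commutator_mono hle hle

/-- The centralizer as an external direct product. -/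
theorem exists_equiv (hJ : orderOf J = 2) {m : ℕ} (φ : T ≃* alternatingGroup (Fin m))
    (hd : IsInternalDirectProduct (zpowers J) T (centralizer ({J} : Set G))) :
    Nonempty (centralizer ({J} : Set G) ≃* Multiplicative (ZMod 2) × alternatingGroup (Fin m)) := by
  have h2 : Nat.card (zpowers J) = 2 := by rw [Nat.card_zpowers, hJ]
  have hc : Nat.card (Multiplicative (ZMod 2)) = 2 := by simp [Nat.card_eq_fintype_card]
  haveI : Fact (Nat.Prime 2) := ⟨Nat.prime_two⟩
  let z : zpowers J ≃* Multiplicative (ZMod 2) := mulEquivOfPrimeCardEq h2 hc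
  let f : zpowers J × T →* G := MonoidHom.noncommCoprod (zpowers J).subtype T.subtype
    fun a b => hd.2.2.1 a a.2 b b.2
  have hinj : Function.Injective f := by
    refine (MonoidHom.noncommCoprod_injective _ _ _).2 ⟨subtype_injective _, subtype_injective _, ?_⟩
    rw [range_subtype, range_subtype, disjoint_iff, hd.2.2.2.1]
  have hr : f.range = centralizer ({J} : Set G) := by
    refine (MonoidHom.noncommCoprod_range _ _ _).trans ?_
    rw [range_subtype, range_subtype, hd.2.2.2.2]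
  exact ⟨((MonoidHom.ofInjective hinj).trans (MulEquiv.subgroupCongr hr)).symm.trans
    (z.prodCongr φ)⟩

end Cfsg.Agent.H65.CentSmallAlt
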