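import Cfsg.Agent.H65.CentSmallAlt.Count
import Mathlib.GroupTheory.SpecificGroups.Cyclic

/-!
The involutions inverting a subgroup of order seven of the normalizer.
-/

set_option autoImplicit false
set_option linter.unusedSectionVars false
set_option linter.style.haveILetI false

namespace Cfsg.Agent.H65.CentSmallAlt.Base

open Subgroup

variable {G : Type*} [Group G] [Finite G]

theorem mem_zpowers_two_cases {K : Type*} [Group K] {a b : K} (ha : orderOf a = 2)
    (hb : b ∈ zpowers a) : b = 1 ∨ b = a := by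
  obtain ⟨k, rfl⟩ := hb
  show a ^ k = 1 ∨ a ^ k = a
  rw [← zpow_mod_orderOf, ha]
  rcases Int.emod_two_eq k with h | h <;> simp [h]

/-- The automorphism group of a group of prime order has one involution. -/
theorem eq_one_or_eq_of_sq {K : Type*} [Group K] [Finite K] {p : ℕ} [Fact p.Prime]
    (hK : Nat.card K = p) {a b : MulAut K} (ha : orderOf a = 2) (hb : b ^ 2 = 1) :
    b = 1 ∨ b = a := by
  classical
  haveI : Fintype (MulAut K) := Fintype.ofFinite _
  haveI : IsCyclic K := isCyclic_of_prime_card hK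
  haveI : IsCyclic (ZMod (Nat.card K))ˣ := by rw [hK]; exact ZMod.isCyclic_units_prime Fact.out
  haveI : IsCyclic (MulAut K) :=
    isCyclic_of_surjective (IsCyclic.mulAutMulEquiv K).symm (IsCyclic.mulAutMulEquiv K).symm.surjective
  by_contra hcon
  push Not at hcon
  have h := IsCyclic.card_pow_eq_one_le (α := MulAut K) (n := 2) two_pos
  have ha2 : a ^ 2 = 1 := ha ▸ pow_orderOf_eq_one a
  have ha1 : a ≠ 1 := fun e => by rw [e, orderOf_one] at ha; omega
  have hsub : ({1, a, b} : Finset (MulAut K)) ⊆ Finset.univ.filter fun x => x ^ 2 = 1 := by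
    intro x hx
    simp only [Finset.mem_insert, Finset.mem_singleton] at hx
    rcases hx with rfl | rfl | rfl <;> simp [ha2, hb]
  have h3 := (Finset.card_le_card hsub).trans h
  rw [Finset.card_eq_three.2 ⟨1, a, b, ha1.symm, hcon.1.symm, hcon.2.symm, rfl⟩] at h3
  omega

theorem conj_invol {u n : G} (hu : u * u = 1) : n * u * n⁻¹ * (n * u * n⁻¹) = 1 := by
  calc n * u * n⁻¹ * (n * u * n⁻¹) = n * (u * u) * n⁻¹ := by group
    _ = 1 := by rw [hu]; group

/-- The involutions inverting `R`. -/
def inverters (R : Subgroup G) : Set G := {u | u * u = 1 ∧ u ≠ 1 ∧ ∀ x ∈ R, u * x * u = x⁻¹}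

theorem inverts_mem_normalizer {R : Subgroup G} {u : G} (hu : u ∈ inverters R) :
    u ∈ normalizer (R : Set G) := by
  have hui : u⁻¹ = u := inv_eq_of_mul_eq_one_left hu.1
  refine mem_normalizer_iff.2 fun x => ?_
  rw [hui]
  refine ⟨fun hx => by rw [hu.2.2 x hx]; exact inv_mem hx, fun hx => ?_⟩
  have h := hu.2.2 _ hx
  rw [show u * (u * x * u) * u = (u * u) * x * (u * u) by group, hu.1, one_mul, mul_one] at h
  rw [h]
  exact inv_mem hx

theorem ncard_inverters_conj (R : Subgroup G) (n : G) :
    (inverters (R.map (MulAut.conj n).toMonoidHom)).ncard = (inverters R).ncard := by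
  rw [← Set.ncard_image_of_injective (inverters R) (MulAut.conj n).injective]
  refine congrArg Set.ncard (Set.ext fun u => ?_)
  constructor
  · rintro ⟨h1, h2, h3⟩
    refine ⟨n⁻¹ * u * n, ⟨?_, fun h => h2 ?_, fun x hx => ?_⟩, by simp [mul_assoc]⟩
    · calc n⁻¹ * u * n * (n⁻¹ * u * n) = n⁻¹ * (u * u) * n := by group
        _ = 1 := by rw [h1]; group
    · calc u = n * (n⁻¹ * u * n) * n⁻¹ := by group
        _ = 1 := by rw [h]; group
    · have h := h3 _ ⟨x, hx, rfl⟩
      simp only [MulEquiv.coe_toMonoidHom, MulAut.conj_apply] at h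
      calc n⁻¹ * u * n * x * (n⁻¹ * u * n) = n⁻¹ * (u * (n * x * n⁻¹) * u) * n := by group
        _ = x⁻¹ := by rw [h]; group
  · rintro ⟨v, ⟨h1, h2, h3⟩, rfl⟩
    refine ⟨?_, fun h => h2 ?_, ?_⟩
    · rw [← map_mul, h1, map_one]
    · exact (MulAut.conj n).injective (h.trans (map_one _).symm)
    · rintro _ ⟨x, hx, rfl⟩
      simp only [MulEquiv.coe_toMonoidHom]
      rw [← map_mul, ← map_mul, h3 x hx, map_inv]

variable {D : Base G}

variable (D) in
include D in
theorem commutator_seven {R : Subgroup G} (hR : Nat.card R = 7) {x : G}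
    (hx : x ∈ centralizer (R : Set G)) (hx2 : x * x = 1) : x = 1 := by
  by_contra hx1
  haveI : Fact (Nat.Prime 7) := ⟨by norm_num⟩
  obtain ⟨p, hp⟩ := exists_prime_orderOf_dvd_card' (G := R) 7 (by rw [hR])
  exact D.not_commute_seven (r := (p : G)) (by rwa [orderOf_coe]) hx2 hx1
    (mem_centralizer_iff.1 hx p p.2)

theorem card_normalizer_seven {R : Subgroup G} (hR : Nat.card R = 7) (hRH : R ≤ D.H) :
    Nat.card (Sylow 7 D.H) = 8 ∧ Nat.card ↥(D.H ⊓ normalizer (R : Set G)) = 21 := by
  haveI : Fact (Nat.Prime 7) := ⟨by norm_num⟩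
  haveI : Fact (Nat.Prime 2) := ⟨Nat.prime_two⟩
  have hR' : Nat.card (R.subgroupOf D.H) = 7 := by
    rw [Nat.card_congr (subgroupOfEquivOfLe hRH).toEquiv, hR]
  have hfac : (Nat.card D.H).factorization 7 = 1 := by
    rw [D.card_H, show (168 : ℕ) = 7 ^ 1 * 24 by norm_num,
      Nat.factorization_mul (by norm_num) (by norm_num), Finsupp.add_apply,
      Nat.Prime.factorization_pow (by norm_num), Finsupp.single_eq_same,
      Nat.factorization_eq_zero_of_not_dvd (by norm_num : ¬ 7 ∣ 24)]
  let Q : Sylow 7 D.H := Sylow.ofCard (R.subgroupOf D.H) (by rw [hR', hfac, pow_one])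
  have h1 := card_sylow_modEq_one 7 D.H
  have h2 := Q.card_dvd_index
  have hidx : (Q : Subgroup D.H).index = 24 := by
    have h := card_mul_index (R.subgroupOf D.H)
    rw [hR', D.card_H] at h
    show (R.subgroupOf D.H).index = 24
    omega
  rw [hidx] at h2
  have h18 : Nat.card (Sylow 7 D.H) = 1 ∨ Nat.card (Sylow 7 D.H) = 8 := by
    have : Nat.card (Sylow 7 D.H) ∈ Nat.divisors 24 := Nat.mem_divisors.2 ⟨h2, by norm_num⟩
    rw [show Nat.divisors 24 = {1, 2, 3, 4, 6, 8, 12, 24} by decide +kernel] at this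
    simp only [Finset.mem_insert, Finset.mem_singleton] at this
    rcases this with h | h | h | h | h | h | h | h <;> rw [h] at h1 ⊢ <;>
      first | exact Or.inl rfl | exact Or.inr rfl | exact absurd h1 (by decide)
  have hne1 : Nat.card (Sylow 7 D.H) ≠ 1 := by
    intro h
    haveI := (Nat.card_eq_one_iff_unique.1 h).1
    have hn : (R.subgroupOf D.H).Normal := Sylow.normal_of_subsingleton Q
    refine D.J_ne_one (D.commutator_seven hR ?_ (D.sq _ D.hJP))
    refine mem_centralizer_iff.2 fun x hx => ?_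
    have e1 : x * D.J * x⁻¹ * D.J⁻¹ ∈ (D.P : Subgroup G) :=
      mul_mem (D.conj_mem_P (hRH hx) D.hJP) (inv_mem D.hJP)
    have e2 : x * D.J * x⁻¹ * D.J⁻¹ ∈ R := by
      have h := hn.conj_mem ⟨x⁻¹, inv_mem (hRH hx)⟩ (inv_mem hx) ⟨D.J, D.P_le_H D.hJP⟩
      have h' : x * (D.J * x⁻¹ * D.J⁻¹) ∈ R := mul_mem hx h
      simpa [mul_assoc] using h'
    have hinf : R ⊓ (D.P : Subgroup G) = ⊥ :=
      inf_eq_bot_of_coprime (by rw [hR, D.card_P]; norm_num)
    have h := mem_inf.2 ⟨e2, e1⟩
    rw [hinf, mem_bot, mul_inv_eq_one] at h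
    exact mul_inv_eq_iff_eq_mul.1 h
  refine ⟨h18.resolve_left hne1, ?_⟩
  have h8 := h18.resolve_left hne1
  have e8 : (normalizer ((Q : Subgroup D.H) : Set D.H)).index = 8 :=
    Q.card_eq_index_normalizer.symm.trans h8
  have h := card_mul_index (normalizer ((Q : Subgroup D.H) : Set D.H))
  rw [e8, D.card_H] at h
  have e : normalizer ((Q : Subgroup D.H) : Set D.H) = (normalizer (R : Set G)).subgroupOf D.H := by
    ext x
    simp only [mem_subgroupOf, mem_normalizer_iff]
    constructor
    · intro hx z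
      constructor
      · intro hz; exact (hx ⟨z, hRH hz⟩).1 hz
      · intro hz
        have hzH : z ∈ D.H := by
          have := mul_mem (mul_mem (inv_mem x.2) (hRH hz)) x.2
          simpa [mul_assoc] using this
        exact (hx ⟨z, hzH⟩).2 hz
    · intro hx z
      exact hx z
  rw [e] at h
  rw [← Nat.card_congr (subgroupOfEquivOfLe (inf_le_left : D.H ⊓ normalizer (R : Set G) ≤ _)).toEquiv,
    inf_subgroupOf_left]
  omega

/-- The centralizer of a subgroup of order seven inverted by an involution. -/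
theorem inverters_data (hC : D.Small) {R : Subgroup G} (hR : Nat.card R = 7) (hRH : R ≤ D.H)
    {t : G} (ht : t ∈ inverters R) :
    (inverters R).ncard = Nat.card (centralizer (R : Set G)) ∧
      6 * Nat.card (centralizer (R : Set G)) ∣ Nat.card G := by
  classical
  haveI : Fact (Nat.Prime 2) := ⟨Nat.prime_two⟩
  haveI : Fact (Nat.Prime 3) := ⟨by norm_num⟩
  haveI : Fact (Nat.Prime 7) := ⟨by norm_num⟩
  obtain ⟨ht2, ht1, htR⟩ := ht
  have hti : t⁻¹ = t := inv_eq_of_mul_eq_one_left ht2
  set A := centralizer (R : Set G) with hA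
  set M := normalizer (R : Set G) with hM
  have htM : t ∈ M := inverts_mem_normalizer ⟨ht2, ht1, htR⟩
  have hAM : A ≤ M := centralizer_le_normalizer _
  let f : M →* MulAut R := normalizerMonoidHom R
  have hfker : f.ker = A.subgroupOf M := normalizerMonoidHom_ker R
  have hfapp : ∀ (g : M) (x : R), ((f g x : R) : G) = (g : G) * x * (g : G)⁻¹ := fun g x => rfl
  have hodd : ¬ 2 ∣ Nat.card A := fun h => by
    obtain ⟨u, hu⟩ := exists_prime_orderOf_dvd_card' (G := A) 2 h
    have hu' : orderOf (u : G) = 2 := by rwa [orderOf_coe]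
    have h1 := D.commutator_seven hR u.2 (by rw [← pow_two, ← hu', pow_orderOf_eq_one])
    rw [h1, orderOf_one] at hu'
    omega
  obtain ⟨p, hp⟩ := exists_prime_orderOf_dvd_card' (G := R) 7 (by rw [hR])
  have hp' : orderOf (p : G) = 7 := by rwa [orderOf_coe]
  -- an element of order three of the normalizer of `R` in `H`
  obtain ⟨y, hy⟩ := exists_prime_orderOf_dvd_card' (G := ↥(D.H ⊓ M)) 3
    (by rw [(card_normalizer_seven hR hRH).2]; norm_num)
  have hy3 : orderOf (y : G) = 3 := by rwa [orderOf_coe]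
  have hyH : (y : G) ∈ D.H := y.2.1
  have hyM : (y : G) ∈ M := y.2.2
  have hfy : orderOf (f ⟨y, hyM⟩) = 3 := by
    refine orderOf_eq_prime ?_ ?_
    · rw [← map_pow, show (⟨(y : G), hyM⟩ : M) ^ 3 = 1 from Subtype.ext (by
        rw [SubgroupClass.coe_pow]; exact hy3 ▸ pow_orderOf_eq_one (y : G)), map_one]
    · intro h
      have hk : (⟨(y : G), hyM⟩ : M) ∈ f.ker := h
      rw [hfker] at hk
      exact not_commute_three hyH hy3 (hRH p.2) hp' (mem_centralizer_iff.1 hk p p.2).symm
  have hft : orderOf (f ⟨t, htM⟩) = 2 := by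
    refine orderOf_eq_prime ?_ ?_
    · rw [← map_pow, show (⟨t, htM⟩ : M) ^ 2 = 1 from Subtype.ext (by
        rw [SubgroupClass.coe_pow, pow_two]; exact ht2), map_one]
    · intro h
      have hk : (⟨t, htM⟩ : M) ∈ f.ker := h
      rw [hfker] at hk
      exact ht1 (D.commutator_seven hR hk ht2)
  have hM6 : 6 * Nat.card A ∣ Nat.card M := by
    have h := card_mul_index f.ker
    rw [hfker, Nat.card_congr (subgroupOfEquivOfLe hAM).toEquiv] at h
    rw [← h, mul_comm 6]
    refine Nat.mul_dvd_mul_left _ ?_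
    rw [← hfker, index_ker]
    have h2 := orderOf_dvd_natCard (⟨_, ⟨⟨t, htM⟩, rfl⟩⟩ : f.range)
    have h3 := orderOf_dvd_natCard (⟨_, ⟨⟨(y : G), hyM⟩, rfl⟩⟩ : f.range)
    rw [← orderOf_coe] at h2; simp only [hft] at h2
    rw [← orderOf_coe] at h3; simp only [hfy] at h3
    exact Nat.Coprime.mul_dvd_of_dvd_of_dvd (by norm_num : Nat.Coprime 2 3) h2 h3
  refine ⟨?_, hM6.trans (card_subgroup_dvd_card M)⟩
  -- `t` centralises no element of `A`
  have hfix : ∀ q ∈ A, t * q = q * t → q = 1 := by
    intro q hq hqt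
    by_contra hq1
    let B : Subgroup M := (zpowers (f ⟨t, htM⟩)).comap f
    have hyB : (⟨(y : G), hyM⟩ : M) ∉ B := fun h => by
      have h' := orderOf_dvd_natCard (⟨_, h⟩ : zpowers (f ⟨t, htM⟩))
      rw [← orderOf_coe] at h'; simp only [hfy, Nat.card_zpowers, hft] at h'
      omega
    have htB : (⟨t, htM⟩ : M) ∈ B := mem_zpowers (f ⟨t, htM⟩)
    let t₁ : M := ⟨(y : G), hyM⟩ * ⟨t, htM⟩ * ⟨(y : G), hyM⟩⁻¹
    have ht1f : f t₁ = f ⟨t, htM⟩ := by
      refine MulEquiv.ext fun x => Subtype.ext ?_
      rw [hfapp, hfapp]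
      show ((y : G) * t * (y : G)⁻¹) * x * ((y : G) * t * (y : G)⁻¹)⁻¹ = t * x * t⁻¹
      have hxy : (y : G)⁻¹ * x * y ∈ R := by
        have := (mem_normalizer_iff.1 (inv_mem hyM) x).1 x.2
        simpa using this
      rw [hti, htR x x.2]
      calc ((y : G) * t * (y : G)⁻¹) * x * ((y : G) * t * (y : G)⁻¹)⁻¹
          = (y : G) * (t * ((y : G)⁻¹ * x * y) * t⁻¹) * (y : G)⁻¹ := by group
        _ = _ := by rw [hti, htR _ hxy]; group
    have ht₁B : t₁ ∈ B := by show f t₁ ∈ zpowers _; rw [ht1f]; exact mem_zpowers _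
    have hBA : f.ker ≤ B := fun x hx => by
      show f x ∈ zpowers _; rw [MonoidHom.mem_ker.1 hx]; exact one_mem _
    have hcardB : Nat.card B = 2 * Nat.card A := by
      have h1 := card_mul_index (f.ker.subgroupOf B)
      have h2 : (f.ker.subgroupOf B).index = 2 := by
        show f.ker.relIndex B = 2
        rw [relIndex_ker, map_comap_eq_self (zpowers_le.2 ⟨_, rfl⟩)]
        simp [Nat.card_zpowers, hft]
      rw [h2, Nat.card_congr (subgroupOfEquivOfLe hBA).toEquiv, hfker,
        Nat.card_congr (subgroupOfEquivOfLe hAM).toEquiv] at h1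
      omega
    have hfac : (Nat.card B).factorization 2 = 1 := by
      rw [hcardB, Nat.factorization_mul (by norm_num) Nat.card_pos.ne', Finsupp.add_apply,
        Nat.Prime.factorization_self Nat.prime_two, Nat.factorization_eq_zero_of_not_dvd hodd]
    have hord : ∀ u : B, ((u : M) : G) * (u : M) = 1 → u ≠ 1 →
        Nat.card (zpowers u) = 2 ^ (Nat.card B).factorization 2 := fun u hu hu1 => by
      rw [hfac, pow_one, Nat.card_zpowers]
      exact orderOf_eq_prime (p := 2) (Subtype.ext (Subtype.ext (by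
        rw [pow_two]; exact hu))) hu1
    let T₀ : Sylow 2 B := Sylow.ofCard _ (hord ⟨_, htB⟩ ht2 fun h =>
      ht1 (congrArg (fun z : B => ((z : M) : G)) h))
    let T₁ : Sylow 2 B := Sylow.ofCard _ (hord ⟨_, ht₁B⟩ (conj_invol ht2) fun h =>
      ht1 (conj_eq_one_iff.1 (congrArg (fun z : B => ((z : M) : G)) h)))
    obtain ⟨b, hb⟩ := MulAction.exists_smul_eq B T₀ T₁
    have hmem : b * ⟨_, htB⟩ * b⁻¹ ∈ (T₁ : Subgroup B) := by
      rw [← hb, Sylow.coe_subgroup_smul]
      exact ⟨_, mem_zpowers _, rfl⟩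
    have hb' : (b : M).1 * t * (b : M).1⁻¹ = (y : G) * t * (y : G)⁻¹ := by
      have ho : orderOf (⟨_, ht₁B⟩ : B) = 2 := by
        rw [← Nat.card_zpowers, hord _ (conj_invol ht2) (fun h => ht1 (conj_eq_one_iff.1
          (congrArg (fun z : B => ((z : M) : G)) h))), hfac, pow_one]
      rcases mem_zpowers_two_cases ho hmem with e | e
      · exact absurd (conj_eq_one_iff.1 (congrArg (fun z : B => ((z : M) : G)) e)) ht1
      · exact congrArg (fun z : B => ((z : M) : G)) e
    let y' : M := (b : M)⁻¹ * ⟨(y : G), hyM⟩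
    have hy'c : (y' : G) * t = t * y' := by
      show (b : M).1⁻¹ * y * t = t * ((b : M).1⁻¹ * y)
      calc (b : M).1⁻¹ * y * t = (b : M).1⁻¹ * ((y : G) * t * (y : G)⁻¹) * y := by group
        _ = t * ((b : M).1⁻¹ * y) := by rw [← hb']; group
    have hy'B : y' ∉ B := fun h => hyB (by
      have := B.mul_mem b.2 h
      simpa [y'] using this)
    -- the centralizer of `t` in the normalizer has order dividing 6
    let X : Subgroup G := centralizer ({t} : Set G) ⊓ M
    obtain ⟨g, hg⟩ := D.exists_conj_of_involution ht2 ht1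
    have hX24 : Nat.card X ∣ 24 := by
      refine (card_dvd_of_le (inf_le_left : X ≤ _)).trans ?_
      have e : centralizer ({t} : Set G) = (centralizer ({D.J} : Set G)).map
          (MulAut.conj g).toMonoidHom := by
        ext x
        rw [mem_centralizer_singleton_iff]
        constructor
        · intro hx
          refine ⟨g⁻¹ * x * g, mem_centralizer_singleton_iff.2 ?_, by simp [mul_assoc]⟩
          calc g⁻¹ * x * g * D.J = g⁻¹ * (x * (g * D.J * g⁻¹)) * g := by group
            _ = D.J * (g⁻¹ * x * g) := by rw [hg, hx, ← hg]; group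
        · rintro ⟨w, hw, rfl⟩
          simp only [MulEquiv.coe_toMonoidHom]
          rw [← hg, ← MulAut.conj_apply, ← map_mul, ← map_mul, mem_centralizer_singleton_iff.1 hw]
      rw [e, card_map_of_injective (MulAut.conj g).injective, hC]
    have htX : t ∈ X := ⟨mem_centralizer_singleton_iff.2 rfl, htM⟩
    obtain ⟨S⟩ := Sylow.nonempty (p := 2) (G := X)
    have hS2 : Nat.card (S : Subgroup X) ≤ 2 := by
      have hsub : ∀ s : X, s ∈ (S : Subgroup X) → (s : G) = 1 ∨ (s : G) = t := by
        intro s hs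
        have hsq : (s : G) * s = 1 := by
          obtain ⟨Q, hQ⟩ := (S.isPGroup'.map X.subtype).exists_le_sylow
          obtain ⟨w, hw⟩ := MulAction.exists_smul_eq G Q D.P
          have hws : w * s * w⁻¹ ∈ (D.P : Subgroup G) := by
            rw [← hw, Sylow.coe_subgroup_smul]
            exact ⟨_, hQ ⟨s, hs, rfl⟩, rfl⟩
          have h2 := D.sq _ hws
          calc (s : G) * s = w⁻¹ * (w * s * w⁻¹ * (w * s * w⁻¹)) * w := by group
            _ = 1 := by rw [h2]; group
        by_contra hcon
        push Not at hcon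
        have hsM : (s : G) ∈ M := s.2.2
        have hst : (s : G) * t = t * s := mem_centralizer_singleton_iff.1 s.2.1
        have hfs2 : f ⟨s, hsM⟩ ^ 2 = 1 := by
          rw [← map_pow, show (⟨(s : G), hsM⟩ : M) ^ 2 = 1 from Subtype.ext (by
            rw [SubgroupClass.coe_pow, pow_two]; exact hsq), map_one]
        rcases eq_one_or_eq_of_sq hR hft hfs2 with e | e
        · have hk : (⟨(s : G), hsM⟩ : M) ∈ f.ker := e
          rw [hfker] at hk
          exact hcon.1 (D.commutator_seven hR hk hsq)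
        · have hk : (⟨(s : G), hsM⟩ : M) * ⟨t, htM⟩ ∈ f.ker := by
            rw [MonoidHom.mem_ker, map_mul, e, ← pow_two, ← hft, pow_orderOf_eq_one]
          rw [hfker] at hk
          have h := D.commutator_seven hR hk (by
            show (s : G) * t * ((s : G) * t) = 1
            calc (s : G) * t * ((s : G) * t) = s * (t * s) * t := by group
              _ = (s : G) * s * (t * t) := by rw [← hst]; group
              _ = 1 := by rw [hsq, ht2, one_mul])
          exact hcon.2 ((eq_inv_of_mul_eq_one_left h).trans hti)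
      have hincl : ∀ z ∈ (Set.univ : Set (S : Subgroup X)),
          ((z : X) : G) ∈ ({1, t} : Set G) := fun z _ => hsub z z.2
      have hle := Set.ncard_le_ncard_of_injOn (fun z : (S : Subgroup X) => ((z : X) : G)) hincl
        (fun a _ b _ e => Subtype.ext (Subtype.ext e)) (Set.toFinite _)
      rw [Set.ncard_univ, Set.ncard_pair (Ne.symm ht1)] at hle
      exact hle
    have hX6 : Nat.card X ∣ 6 := by
      have h4 : ¬ 4 ∣ Nat.card X := fun h4 => by
        have hd := S.pow_dvd_card_of_pow_dvd_card (n := 2) h4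
        have := Nat.le_of_dvd Nat.card_pos hd
        omega
      have : Nat.card X ∈ Nat.divisors 24 := Nat.mem_divisors.2 ⟨hX24, by norm_num⟩
      rw [show Nat.divisors 24 = {1, 2, 3, 4, 6, 8, 12, 24} by decide +kernel] at this
      simp only [Finset.mem_insert, Finset.mem_singleton] at this
      rcases this with h | h | h | h | h | h | h | h <;> rw [h] at h4 ⊢ <;>
        first | (norm_num at h4; done) | norm_num | exact absurd (dvd_refl 4) h4
    -- but `X` meets `B` in at least six elements
    let XB : Subgroup G := X ⊓ B.map M.subtype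
    have hqM : q ∈ M := hAM hq
    have hq3 : orderOf q = 3 := by
      have hqX : q ∈ X := ⟨mem_centralizer_singleton_iff.2 hqt.symm, hqM⟩
      have h1 : orderOf q ∣ 6 := by
        have := (_root_.orderOf_dvd_natCard (⟨q, hqX⟩ : X)).trans hX6
        rwa [orderOf_mk] at this
      have h2 : ¬ 2 ∣ orderOf q := fun h => hodd (h.trans (by
        have := _root_.orderOf_dvd_natCard (⟨q, hq⟩ : A)
        rwa [orderOf_mk] at this))
      have : orderOf q ∈ Nat.divisors 6 := Nat.mem_divisors.2 ⟨h1, by norm_num⟩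
      rw [show Nat.divisors 6 = {1, 2, 3, 6} by decide +kernel] at this
      simp only [Finset.mem_insert, Finset.mem_singleton] at this
      rcases this with h | h | h | h
      · exact absurd (orderOf_eq_one_iff.1 h) hq1
      · exact absurd (h ▸ dvd_rfl) h2
      · exact h
      · exact absurd (h ▸ (by norm_num)) h2
    have hqB : (⟨q, hqM⟩ : M) ∈ B := hBA (by rw [hfker]; exact hq)
    have h6 : 6 ∣ Nat.card XB := by
      have hqXB : q ∈ XB := ⟨⟨mem_centralizer_singleton_iff.2 hqt.symm, hqM⟩, _, hqB, rfl⟩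
      have htXB : t ∈ XB := ⟨htX, _, htB, rfl⟩
      have h2 := _root_.orderOf_dvd_natCard (⟨t, htXB⟩ : XB)
      have h3 := _root_.orderOf_dvd_natCard (⟨q, hqXB⟩ : XB)
      rw [orderOf_mk, orderOf_eq_prime (p := 2) (by rw [pow_two, ht2]) ht1] at h2
      rw [orderOf_mk, hq3] at h3
      exact Nat.Coprime.mul_dvd_of_dvd_of_dvd (by norm_num : Nat.Coprime 2 3) h2 h3
    have hXle : X ≤ XB := le_of_eq (eq_of_le_of_card_ge inf_le_left
      ((Nat.le_of_dvd (by norm_num) hX6).trans (Nat.le_of_dvd Nat.card_pos h6))).symm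
    obtain ⟨w, hw, e⟩ := (hXle ⟨mem_centralizer_singleton_iff.2 hy'c, y'.2⟩).2
    exact hy'B (Subtype.ext e ▸ hw)
  -- so `t` inverts `A`
  have hinvA : ∀ a ∈ A, t * a * t = a⁻¹ := by
    intro a ha
    refine inverts_of_fixed ht2 (fun k hk => mem_centralizer_iff.2 fun x hx => ?_) hfix ha
    have hx' : t * x * t = x⁻¹ := htR x hx
    have h := mem_centralizer_iff.1 hk x⁻¹ (inv_mem hx)
    rw [← hx'] at h
    calc x * (t * k * t) = t * ((t * x * t) * k) * t := by
          calc x * (t * k * t) = (t * t) * x * t * k * t := by rw [ht2]; group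
            _ = _ := by group
      _ = t * (k * (t * x * t)) * t := by rw [h]
      _ = t * k * t * x * (t * t) := by group
      _ = t * k * t * x := by rw [ht2, mul_one]
  rw [← Nat.card_coe_set_eq]
  refine Nat.card_congr
    { toFun := fun u => ⟨t * u.1, ?_⟩
      invFun := fun a => ⟨t * a.1, ?_⟩
      left_inv := fun u => Subtype.ext (by simp only; rw [← mul_assoc, ht2, one_mul])
      right_inv := fun a => Subtype.ext (by simp only; rw [← mul_assoc, ht2, one_mul]) }
  · refine mem_centralizer_iff.2 fun x hx => ?_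
    obtain ⟨hu2, hu1, huR⟩ := u.2
    have hx' : (u : G) * x * u = x⁻¹ := huR x hx
    calc x * (t * (u : G)) = t * (t * x * t) * u := by
          calc x * (t * (u : G)) = (t * t) * x * t * u := by rw [ht2]; group
            _ = _ := by group
      _ = t * x⁻¹ * u := by rw [htR x hx]
      _ = t * ((u : G) * x * u) * u := by rw [hx']
      _ = t * u * x * ((u : G) * u) := by group
      _ = t * u * x := by rw [hu2, mul_one]
  · refine ⟨?_, fun h => ?_, fun x hx => ?_⟩
    · calc t * (a : G) * (t * a) = t * a * t * a := by group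
        _ = 1 := by rw [hinvA a a.2]; group
    · have : (a : G) = t := (inv_eq_of_mul_eq_one_right h).symm.trans hti
      exact ht1 (D.commutator_seven hR (this ▸ a.2) ht2)
    · calc t * (a : G) * x * (t * a) = t * ((a : G) * x) * t * a := by group
        _ = t * (x * a) * t * a := by rw [mem_centralizer_iff.1 a.2 x hx]
        _ = t * x * (t * t) * a * t * a := by rw [ht2]; group
        _ = t * x * t * (t * a * t) * a := by group
        _ = x⁻¹ := by rw [htR x hx, hinvA a a.2]; group

end Cfsg.Agent.H65.CentSmallAlt.Base
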