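import Cfsg.Agent.H65.CentSmallAlt.Local
import Mathlib.GroupTheory.Perm.Cycle.Type

/-!
The subgroup generated by the involutions is simple, with trivial centralizer.
-/

set_option autoImplicit false
set_option linter.unusedSectionVars false
set_option linter.style.haveILetI false

namespace Cfsg.Agent.H65.CentSmallAlt.Base

open Subgroup

variable {G : Type*} [Group G] (D : Base G)

/-- The subgroup generated by the involutions. -/
def N : Subgroup G := normalClosure {D.J}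

instance N_normal : D.N.Normal := normalClosure_normal

variable [Finite G]

theorem mem_N_of_involution {u : G} (hu : u * u = 1) (hu1 : u ≠ 1) : u ∈ D.N := by
  obtain ⟨g, rfl⟩ := D.exists_conj_of_involution hu hu1
  exact (inferInstance : D.N.Normal).conj_mem _ (subset_normalClosure (Set.mem_singleton D.J)) g

theorem P_le_N : (D.P : Subgroup G) ≤ D.N := fun u hu => by
  by_cases h : u = 1
  · rw [h]; exact one_mem _
  · exact D.mem_N_of_involution (D.sq u hu) h

theorem P_ne_bot : (D.P : Subgroup G) ≠ ⊥ := fun h => D.J_ne_one (by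
  have := D.hJP; rwa [h, mem_bot] at this)

theorem exists_mem_not_P (hns : ¬ Group.IsSolvable G) :
    ∃ g ∈ D.N ⊓ D.H, g ∉ (D.P : Subgroup G) := by
  classical
  haveI : Fact (Nat.Prime 2) := ⟨Nat.prime_two⟩
  by_contra hcon
  push Not at hcon
  let Q : Sylow 2 D.N := D.P.subtype D.P_le_N
  have hQ : (Q : Subgroup D.N) = (D.P : Subgroup G).subgroupOf D.N := rfl
  have hNQ : normalizer ((Q : Subgroup D.N) : Set D.N) ≤
      centralizer ((Q : Subgroup D.N) : Set D.N) := by
    intro g hg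
    have hgH : (g : G) ∈ D.H := by
      refine mem_normalizer_iff.2 fun z => ?_
      constructor
      · intro hz
        exact (mem_normalizer_iff.1 hg ⟨z, D.P_le_N hz⟩).1 hz
      · intro hz
        have hzN : z ∈ D.N := by
          have := (inferInstance : D.N.Normal).conj_mem _ (D.P_le_N hz) (g : G)⁻¹
          simpa [mul_assoc] using this
        exact (mem_normalizer_iff.1 hg ⟨z, hzN⟩).2 hz
    have hgP := hcon g ⟨g.2, hgH⟩
    refine mem_centralizer_iff.2 fun z hz => Subtype.ext ?_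
    exact D.comm hz hgP
  obtain ⟨K, hKn, hK, hnotdvd⟩ : ∃ K : Subgroup D.N, K.Normal ∧
      K.IsComplement' (Q : Subgroup D.N) ∧ ¬ 2 ∣ Nat.card K :=
    ⟨_, MonoidHom.normal_ker _, MonoidHom.ker_transferSylow_isComplement' Q hNQ,
      MonoidHom.not_dvd_card_ker_transferSylow Q hNQ⟩
  have hbot : K.map D.N.subtype = ⊥ := by
    refine D.eq_bot_of_odd (fun p hp => ?_) ?_
    · have key : ∀ q ∈ D.N, ∀ z ∈ K.map D.N.subtype, q * z * q⁻¹ ∈ K.map D.N.subtype := by
        rintro q hq _ ⟨w, hw, rfl⟩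
        exact ⟨⟨q, hq⟩ * w * ⟨q, hq⟩⁻¹, hKn.conj_mem w hw _, rfl⟩
      refine mem_normalizer_iff.2 fun z => ⟨key p (D.P_le_N hp) z, fun h => ?_⟩
      have := key p⁻¹ (inv_mem (D.P_le_N hp)) _ h
      simpa [mul_assoc] using this
    · rw [card_map_of_injective D.N.subtype_injective]
      exact Nat.not_even_iff_odd.1 fun h => hnotdvd (even_iff_two_dvd.1 h)
  rw [Subgroup.map_eq_bot_iff, ker_subtype, le_bot_iff] at hbot
  have hc := hK.card_mul
  rw [hbot, card_bot, one_mul, hQ,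
    Nat.card_congr (subgroupOfEquivOfLe D.P_le_N).toEquiv, D.card_P] at hc
  have hPN : (D.P : Subgroup G) = D.N :=
    eq_of_le_of_card_ge D.P_le_N (by rw [← hc, D.card_P])
  haveI : (D.P : Subgroup G).Normal := hPN ▸ D.N_normal
  have hH : D.H = ⊤ := normalizer_eq_top _
  have hG : Nat.card G = 168 := by rw [← D.card_H, hH, card_top]
  refine hns ?_
  haveI : Group.IsSolvable ↥(D.P : Subgroup G) := by
    haveI := D.P.isPGroup'.isNilpotent
    infer_instance
  haveI : Group.IsSolvable (G ⧸ (D.P : Subgroup G)) := by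
    refine S0205.result ?_
    have := (D.P : Subgroup G).card_eq_card_quotient_mul_card_subgroup
    rw [hG, D.card_P] at this
    rw [show Nat.card (G ⧸ (D.P : Subgroup G)) = 21 by omega]
    decide
  exact Group.isSolvable_of_ker_le_range (D.P : Subgroup G).subtype
    (QuotientGroup.mk' (D.P : Subgroup G)) (by simp)

/-- An element of order three of the normalizer fixes exactly one involution of `P`. -/
theorem exists_unique_fixed {c : G} (hcH : c ∈ D.H) (hc : orderOf c = 3) :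
    ∃ x ∈ (D.P : Subgroup G), x ≠ 1 ∧ c * x = x * c ∧
      ∀ z ∈ (D.P : Subgroup G), c * z = z * c → z = 1 ∨ z = x := by
  classical
  haveI : Fact (Nat.Prime 2) := ⟨Nat.prime_two⟩
  haveI : Fact (Nat.Prime 3) := ⟨by norm_num⟩
  have hcP : c ∉ (D.P : Subgroup G) := fun h => by
    have h' := orderOf_dvd_natCard (⟨c, h⟩ : (D.P : Subgroup G))
    rw [orderOf_mk, hc, D.card_P] at h'
    omega
  let F : Subgroup G := centralizer ({c} : Set G) ⊓ (D.P : Subgroup G)
  letI := D.act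
  let R' : Subgroup D.H := zpowers ⟨c, hcH⟩
  have hR3 : IsPGroup 3 R' := IsPGroup.of_card (n := 1) (by
    rw [Nat.card_zpowers, orderOf_mk, hc, pow_one])
  let X : SubMulAction R' G :=
    { carrier := (D.P : Subgroup G)
      smul_mem' := fun r {z} hz => D.conj_mem_P (r : D.H).2 hz }
  have hX : Nat.card X = 8 := D.card_P
  have h := hR3.card_modEq_card_fixedPoints X
  have hFc : Nat.card (MulAction.fixedPoints R' X) = Nat.card F := by
    refine Nat.card_congr
      { toFun := fun a => ⟨(a.1 : G), ?_, a.1.2⟩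
        invFun := fun a => ⟨⟨(a : G), a.2.2⟩, ?_⟩
        left_inv := fun a => rfl
        right_inv := fun a => rfl }
    · exact mem_centralizer_singleton_iff.2 (mul_inv_eq_iff_eq_mul.1
        (congrArg Subtype.val (a.2 ⟨⟨c, hcH⟩, mem_zpowers _⟩))).symm
    · rintro ⟨r, j, rfl⟩
      apply Subtype.ext
      show c ^ j * (a : G) * (c ^ j)⁻¹ = a
      rw [((show Commute c (a : G) from
        (mem_centralizer_singleton_iff.1 a.2.1).symm).zpow_left j).eq, mul_inv_cancel_right]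
  rw [hX, hFc] at h
  obtain ⟨k, hk⟩ := IsPGroup.iff_card.1 (D.P.isPGroup'.to_le (inf_le_right : F ≤ _))
  have hF8 : Nat.card F ≤ 8 := D.card_P ▸ card_le_of_le inf_le_right
  have hne8 : Nat.card F ≠ 8 := fun h8 => by
    have hFP : F = (D.P : Subgroup G) :=
      eq_of_le_of_card_ge inf_le_right (by rw [D.card_P, h8])
    refine hcP (D.cent_P (mem_centralizer_iff.2 fun w hw => ?_))
    exact mem_centralizer_singleton_iff.1 (hFP.ge hw).1
  have h2 : Nat.card F = 2 := by
    have hk3 : k ≤ 3 := (Nat.pow_le_pow_iff_right (by norm_num : 1 < 2)).1 (by rw [← hk]; exact hF8)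
    rw [hk] at h hne8 ⊢
    interval_cases k <;> simp_all [Nat.ModEq]
  obtain ⟨a, b, hab, huniv⟩ := Nat.card_eq_two_iff.1 h2
  have hall : ∀ z : F, z = a ∨ z = b := fun z => by
    have := huniv.ge (Set.mem_univ z)
    simpa using this
  obtain ⟨x, hx1, hx⟩ : ∃ x : F, x ≠ 1 ∧ ∀ z : F, z = 1 ∨ z = x := by
    rcases hall 1 with h1 | h1
    · exact ⟨b, by rw [h1]; exact hab.symm, fun z => by rw [h1]; exact hall z⟩
    · exact ⟨a, by rw [h1]; exact hab, fun z => by rw [h1]; exact (hall z).symm⟩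
  refine ⟨x, x.2.2, fun h1 => hx1 (Subtype.ext h1),
    (mem_centralizer_singleton_iff.1 x.2.1).symm, fun z hz hzc => ?_⟩
  exact (hx ⟨z, mem_centralizer_singleton_iff.2 hzc.symm, hz⟩).imp
    (congrArg Subtype.val) (congrArg Subtype.val)

theorem exists_seven (hns : ¬ Group.IsSolvable G) :
    ∃ r ∈ D.N, r ∈ D.H ∧ orderOf r = 7 := by
  classical
  haveI : Fact (Nat.Prime 2) := ⟨Nat.prime_two⟩
  haveI : Fact (Nat.Prime 3) := ⟨by norm_num⟩
  haveI : Fact (Nat.Prime 7) := ⟨by norm_num⟩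
  have hPL : (D.P : Subgroup G) ≤ D.N ⊓ D.H := le_inf D.P_le_N D.P_le_H
  have hne := D.exists_mem_not_P hns
  by_contra hno
  push Not at hno
  have h7 : ¬ 7 ∣ Nat.card ↥(D.N ⊓ D.H) := by
    intro h
    obtain ⟨r, hr⟩ := exists_prime_orderOf_dvd_card' 7 h
    exact hno r r.2.1 r.2.2 (by rwa [orderOf_coe])
  obtain ⟨g, hg, hgP⟩ := hne
  have h8 : 8 ∣ Nat.card ↥(D.N ⊓ D.H) := D.card_P ▸ card_dvd_of_le hPL
  have h168 : Nat.card ↥(D.N ⊓ D.H) ∣ 168 := D.card_H ▸ card_dvd_of_le inf_le_right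
  have h24 : Nat.card ↥(D.N ⊓ D.H) = 24 := by
    obtain ⟨k, hk⟩ := h8
    have hk21 : k ∣ 21 := Nat.dvd_of_mul_dvd_mul_left (by norm_num : 0 < 8) (by rw [← hk]; exact h168)
    have hk1 : k ≠ 1 := fun h1 => hgP (by
      rw [eq_of_le_of_card_ge hPL (by rw [D.card_P, hk, h1])]
      exact hg)
    have hk7 : ¬ 7 ∣ k := fun h => h7 (hk ▸ dvd_mul_of_dvd_right h 8)
    have : k ∈ Nat.divisors 21 := Nat.mem_divisors.2 ⟨hk21, by norm_num⟩
    rw [show Nat.divisors 21 = {1, 3, 7, 21} by decide +kernel] at this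
    simp only [Finset.mem_insert, Finset.mem_singleton] at this
    rcases this with rfl | rfl | rfl | rfl
    all_goals first | omega | (norm_num at hk7)
  obtain ⟨c, hc⟩ := exists_prime_orderOf_dvd_card' (G := ↥(D.N ⊓ D.H)) 3 (by rw [h24]; norm_num)
  have hc3 : orderOf (c : G) = 3 := by rwa [orderOf_coe]
  set R : Subgroup G := zpowers (c : G) with hR
  obtain ⟨x, hx, hx1, hxc, huniq⟩ := D.exists_unique_fixed c.2.2 hc3
  -- the normalizer fixes `x`
  have hfix : ∀ n ∈ D.H, n * x * n⁻¹ = x := by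
    intro n hn
    have hcH : (c : G) ∈ D.H := c.2.2
    have hL : n * (c : G) * n⁻¹ ∈ D.N ⊓ D.H :=
      Subgroup.mem_inf.2 ⟨(inferInstance : D.N.Normal).conj_mem _ c.2.1 n,
        mul_mem (mul_mem hn hcH) (inv_mem hn)⟩
    have hcard : (D.P : Subgroup G) ⊔ R = D.N ⊓ D.H := by
      refine eq_of_le_of_card_ge (sup_le hPL ((zpowers_le).2 c.2)) ?_
      have h3 : 3 ∣ Nat.card ↥((D.P : Subgroup G) ⊔ R) := by
        have := card_dvd_of_le (le_sup_right : R ≤ (D.P : Subgroup G) ⊔ R)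
        rwa [hR, Nat.card_zpowers, hc3] at this
      have h8' : 8 ∣ Nat.card ↥((D.P : Subgroup G) ⊔ R) :=
        D.card_P ▸ card_dvd_of_le le_sup_left
      rw [h24]
      exact Nat.le_of_dvd Nat.card_pos (Nat.Coprime.mul_dvd_of_dvd_of_dvd (by decide) h8' h3)
    have hL' := hcard.ge hL
    rw [sup_comm, ← SetLike.mem_coe, coe_mul_of_left_le_normalizer_right _ _
      ((zpowers_le).2 hcH)] at hL'
    obtain ⟨a, ⟨j, rfl⟩, s, hs, he⟩ := hL'
    replace he : (c : G) ^ j * s = n * (c : G) * n⁻¹ := he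
    have hxn : (n * (c : G) * n⁻¹) * x = x * (n * (c : G) * n⁻¹) := by
      rw [← he, mul_assoc, D.comm hs hx, ← mul_assoc,
        ((show Commute (c : G) x from hxc).zpow_left j).eq, mul_assoc]
    have hmem : n⁻¹ * x * n ∈ (D.P : Subgroup G) := by
      simpa using D.conj_mem_P (inv_mem hn) hx
    rcases huniq _ hmem (by
      calc (c : G) * (n⁻¹ * x * n) = n⁻¹ * ((n * (c : G) * n⁻¹) * x) * n := by group
        _ = (n⁻¹ * x * n) * c := by rw [hxn]; group) with h | h
    · exact absurd (by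
        calc x = n * (n⁻¹ * x * n) * n⁻¹ := by group
          _ = 1 := by rw [h]; group) hx1
    · calc n * x * n⁻¹ = n * (n⁻¹ * x * n) * n⁻¹ := by rw [h]
        _ = x := by group
  obtain ⟨n, hn, hnx⟩ := D.exists_conj_eq hx hx1
  have hJx : D.J = x := by
    have h := hfix n⁻¹ (inv_mem hn)
    rw [← h, ← hnx]; group
  subst hJx
  have hall : ∀ u ∈ (D.P : Subgroup G), u = 1 ∨ u = D.J := by
    intro u hu
    by_contra hcon
    push Not at hcon
    obtain ⟨m, hm, e⟩ := D.exists_conj_eq hu hcon.1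
    exact hcon.2 (by rw [← e, hfix m hm])
  have hsub : ((D.P : Subgroup G) : Set G) ⊆ {1, D.J} := fun u hu => hall u hu
  have := Set.ncard_le_ncard hsub (Set.toFinite _)
  rw [← Nat.card_coe_set_eq, SetLike.coe_sort_coe, D.card_P,
    Set.ncard_pair D.J_ne_one.symm] at this
  omega

theorem exists_conj_in_N (hns : ¬ Group.IsSolvable G) {u : G} (hu : u * u = 1) (hu1 : u ≠ 1) :
    ∃ g ∈ D.N, g * D.J * g⁻¹ = u := by
  classical
  haveI : Fact (Nat.Prime 2) := ⟨Nat.prime_two⟩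
  haveI : Fact (Nat.Prime 7) := ⟨by norm_num⟩
  obtain ⟨r, hrN, hrH, hr⟩ := D.exists_seven hns
  -- move `u` into `P` inside `N`
  let Q₀ : Sylow 2 D.N := D.P.subtype D.P_le_N
  have hz : orderOf (⟨u, D.mem_N_of_involution hu hu1⟩ : D.N) = 2 := by
    rw [orderOf_mk]; exact orderOf_eq_prime (p := 2) (by rw [pow_two, hu]) hu1
  obtain ⟨Q, hQ⟩ := (IsPGroup.of_card (p := 2)
    (G := zpowers (⟨u, D.mem_N_of_involution hu hu1⟩ : D.N)) (n := 1) (by
    rw [Nat.card_zpowers, hz, pow_one])).exists_le_sylow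
  obtain ⟨g, hg⟩ := MulAction.exists_smul_eq D.N Q Q₀
  have hu' : (g : G) * u * (g : G)⁻¹ ∈ (D.P : Subgroup G) := by
    have : g * ⟨u, D.mem_N_of_involution hu hu1⟩ * g⁻¹ ∈ (Q₀ : Subgroup D.N) := by
      rw [← hg, Sylow.coe_subgroup_smul]
      exact ⟨_, hQ (mem_zpowers _), rfl⟩
    exact this
  -- the element of order seven is transitive on `P`
  letI := D.act
  let R : Subgroup D.H := zpowers ⟨r, hrH⟩
  have hcardR : Nat.card R = 7 := by rw [Nat.card_zpowers, orderOf_mk, hr]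
  have hsub : MulAction.orbit R D.J ⊆ ((D.P : Subgroup G) : Set G) \ {1} := by
    rintro _ ⟨n, rfl⟩
    exact ⟨D.conj_mem_P (n : D.H).2 D.hJP, fun h => D.J_ne_one (conj_eq_one_iff.1 h)⟩
  have horb : (MulAction.orbit R D.J).ncard = 7 := by
    have hd : (MulAction.orbit R D.J).ncard ∣ 7 := by
      rw [← MulAction.index_stabilizer, ← hcardR]
      exact index_dvd_card _
    rcases (Nat.dvd_prime (by norm_num : Nat.Prime 7)).1 hd with h | h
    · exfalso
      obtain ⟨a, ha⟩ := Set.ncard_eq_one.1 h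
      have e1 : r * D.J * r⁻¹ ∈ MulAction.orbit R D.J :=
        ⟨⟨⟨r, hrH⟩, mem_zpowers _⟩, rfl⟩
      have e2 := MulAction.mem_orbit_self (M := R) D.J
      rw [ha, Set.mem_singleton_iff] at e1 e2
      exact D.not_commute_seven hr (D.sq _ D.hJP) D.J_ne_one
        (mul_inv_eq_iff_eq_mul.1 (e1.trans e2.symm))
    · exact h
  have heq : MulAction.orbit R D.J = ((D.P : Subgroup G) : Set G) \ {1} := by
    refine Set.eq_of_subset_of_ncard_le hsub ?_
    rw [horb, Set.ncard_sdiff_singleton_of_mem (one_mem _), ← Nat.card_coe_set_eq]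
    simp only [SetLike.coe_sort_coe, D.card_P, le_refl]
  have hmem : (g : G) * u * (g : G)⁻¹ ∈ MulAction.orbit R D.J := by
    rw [heq]; exact ⟨hu', fun h => hu1 (conj_eq_one_iff.1 h)⟩
  obtain ⟨⟨n, hnR⟩, hn⟩ := hmem
  replace hn : (n : G) * D.J * (n : G)⁻¹ = (g : G) * u * (g : G)⁻¹ := hn
  have hnN : (n : G) ∈ D.N := by
    obtain ⟨j, rfl⟩ := hnR
    exact zpow_mem hrN j
  refine ⟨(g : G)⁻¹ * n, mul_mem (inv_mem g.2) hnN, ?_⟩
  calc (g : G)⁻¹ * n * D.J * ((g : G)⁻¹ * n)⁻¹ = (g : G)⁻¹ * ((n : G) * D.J * (n : G)⁻¹) * g := by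
        group
    _ = u := by rw [hn]; group

theorem isSimple (hns : ¬ Group.IsSolvable G) : IsSimpleGroup D.N := by
  haveI : Fact (Nat.Prime 2) := ⟨Nat.prime_two⟩
  haveI : Nontrivial D.N := (nontrivial_iff_exists_ne_one _).2
    ⟨D.J, D.P_le_N D.hJP, D.J_ne_one⟩
  refine ⟨fun K hK => ?_⟩
  have key : ∀ q ∈ D.N, ∀ z ∈ K.map D.N.subtype, q * z * q⁻¹ ∈ K.map D.N.subtype := by
    rintro q hq _ ⟨w, hw, rfl⟩
    exact ⟨⟨q, hq⟩ * w * ⟨q, hq⟩⁻¹, hK.conj_mem w hw _, rfl⟩
  by_cases hev : 2 ∣ Nat.card K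
  · refine Or.inr ?_
    obtain ⟨w, hw⟩ := exists_prime_orderOf_dvd_card' 2 hev
    have hw' : orderOf ((w : D.N) : G) = 2 := by rwa [orderOf_coe, orderOf_coe]
    have hsq : ((w : D.N) : G) * ((w : D.N) : G) = 1 := by
      rw [← pow_two, ← hw', pow_orderOf_eq_one]
    have hw1 : ((w : D.N) : G) ≠ 1 := fun h => by rw [h, orderOf_one] at hw'; omega
    have hJK : D.J ∈ K.map D.N.subtype := by
      obtain ⟨g, hg, e⟩ := D.exists_conj_in_N hns hsq hw1
      have h := key g⁻¹ (inv_mem hg) _ ⟨(w : D.N), w.2, rfl⟩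
      have e' : g⁻¹ * D.N.subtype (w : D.N) * g⁻¹⁻¹ = D.J := by
        rw [subtype_apply, ← e]; group
      rwa [e'] at h
    refine eq_top_iff.2 fun x _ => ?_
    have hle : D.N ≤ K.map D.N.subtype := by
      refine closure_le (K.map D.N.subtype) |>.2 fun z hz => ?_
      obtain ⟨a, rfl, hconj⟩ := Group.mem_conjugatesOfSet_iff.1 hz
      obtain ⟨g, rfl⟩ := isConj_iff.1 hconj
      obtain ⟨h, hh, e⟩ := D.exists_conj_in_N hns (u := g * D.J * g⁻¹) (by
        calc g * D.J * g⁻¹ * (g * D.J * g⁻¹) = g * (D.J * D.J) * g⁻¹ := by group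
          _ = 1 := by rw [D.sq _ D.hJP]; group) (fun h => D.J_ne_one (conj_eq_one_iff.1 h))
      rw [← e]
      exact key h hh _ hJK
    obtain ⟨w', hw', e⟩ := hle x.2
    rwa [← Subtype.ext e]
  · refine Or.inl ?_
    have hbot : K.map D.N.subtype = ⊥ := by
      refine D.eq_bot_of_odd (fun p hp => ?_) ?_
      · refine mem_normalizer_iff.2 fun z => ⟨key p (D.P_le_N hp) z, fun h => ?_⟩
        have := key p⁻¹ (inv_mem (D.P_le_N hp)) _ h
        simpa [mul_assoc] using this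
      · rw [card_map_of_injective D.N.subtype_injective]
        exact Nat.not_even_iff_odd.1 fun h => hev (even_iff_two_dvd.1 h)
    rwa [Subgroup.map_eq_bot_iff, ker_subtype, le_bot_iff] at hbot

theorem N_not_comm (hns : ¬ Group.IsSolvable G) : ∃ a b : D.N, a * b ≠ b * a := by
  obtain ⟨r, hrN, -, hr⟩ := D.exists_seven hns
  exact ⟨⟨r, hrN⟩, ⟨D.J, D.P_le_N D.hJP⟩, fun h =>
    D.not_commute_seven hr (D.sq _ D.hJP) D.J_ne_one (congrArg Subtype.val h)⟩

theorem centralizer_N (hns : ¬ Group.IsSolvable G) : centralizer (D.N : Set G) = ⊥ := by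
  rw [eq_bot_iff]
  intro x hx
  have hxP : x ∈ (D.P : Subgroup G) :=
    D.cent_P (centralizer_le D.P_le_N hx)
  obtain ⟨r, hrN, -, hr⟩ := D.exists_seven hns
  by_contra hx1
  exact D.not_commute_seven hr (D.sq _ hxP) hx1 (mem_centralizer_iff.1 hx r hrN)

theorem index_N : D.N.index = (D.N ⊓ D.H).relIndex D.H := by
  haveI : Fact (Nat.Prime 2) := ⟨Nat.prime_two⟩
  let Q : Sylow 2 D.N := D.P.subtype D.P_le_N
  have h := Sylow.normalizer_sup_eq_top Q
  rw [show ((Q : Subgroup D.N)).map D.N.subtype = (D.P : Subgroup G) from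
    map_subgroupOf_eq_of_le D.P_le_N] at h
  rw [inf_relIndex_right, ← relIndex_top_right D.N, ← h, relIndex_sup_right]

end Cfsg.Agent.H65.CentSmallAlt.Base
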